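import Mathlib

/-!
Configurations around a `p`-central element whose centraliser is that of a transvection of `PSp₄`:
the abelian subgroup `M` in coordinates, and its normaliser as a group of additive maps.
-/

set_option autoImplicit false
set_option linter.unusedSectionVars false

namespace CfsgLib.Recog.SpFourP

open Subgroup

variable {G : Type*} [Group G] [Finite G] {F : Type*} [Field F] [Finite F]

/-- The coordinate maps: `μ` for `M`, `u` and `d` for the unipotent and toral parts. -/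
structure Data (G : Type*) (F : Type*) [Group G] [Field F] where
  μ : F × F × F → G
  u : F → G
  d : Fˣ → G

/-- The subgroup generated by the translations (equal to their range). -/
def Data.M (D : Data G F) : Subgroup G := Subgroup.closure (Set.range D.μ)

/-- The centraliser of the first `p`-central element. -/
def Data.C (D : Data G F) : Subgroup G := Subgroup.centralizer ({D.μ (1, 0, 0)} : Set G)

/-- The normaliser of `M`. -/
def Data.N (D : Data G F) : Subgroup G := Subgroup.normalizer (D.M : Set G)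

/-- Conjugation on `M` in coordinates. -/
noncomputable def Data.cj (D : Data G F) (n : G) (x : F × F × F) : F × F × F :=
  Function.invFun D.μ (n * D.μ x * n⁻¹)

/-- A point: the image of the centre of `C` under an element of the normaliser. -/
def Data.pt (D : Data G F) (n : G) : Set (F × F × F) := Set.range fun a : F => D.cj n (a, 0, 0)

/-- The hypotheses. -/
structure Cfg (D : Data G F) (p : ℕ) : Prop where
  odd : p ≠ 2
  prime : p.Prime
  charp : (p : F) = 0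
  mod4 : Nat.card F % 4 = 3
  μ_add : ∀ x y, D.μ (x + y) = D.μ x * D.μ y
  u_add : ∀ s t, D.u (s + t) = D.u s * D.u t
  d_mul : ∀ s t, D.d (s * t) = D.d s * D.d t
  μu : ∀ (t a b c : F), D.u t * D.μ (a, b, c) = D.μ (a + 2 * t * b + t * t * c, b + t * c, c) * D.u t
  μd : ∀ (s : Fˣ) (a b c : F), D.d s * D.μ (a, b, c) = D.μ (a, s * b, s * s * c) * D.d s
  ud : ∀ (s : Fˣ) (t : F), D.d s * D.u t = D.u (t * ↑s⁻¹) * D.d s
  eq_one : ∀ x t s, D.μ x * D.u t * D.d s = 1 → x = 0 ∧ t = 0 ∧ s = 1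
  cent : ∀ a : F, a ≠ 0 → Subgroup.centralizer ({D.μ (a, 0, 0)} : Set G) = D.C
  centre : ∀ z ∈ D.C, (∀ g ∈ D.C, g * z = z * g) → ∃ a, z = D.μ (a, 0, 0)
  normC : ∀ g ∈ D.C, g ∈ D.N → ∃ x t s, g = D.μ x * D.u t * D.d s
  psyl : ∃ P : Sylow p G, ∀ g, g ∈ (P : Subgroup G) ↔ ∃ x t, g = D.μ x * D.u t
  fus : ¬ ∀ y : F, y ≠ 0 → ∃ g : G, g * D.μ (1, 0, 0) * g⁻¹ = D.μ (y, 0, 0)

variable {D : Data G F} {p : ℕ} (h : Cfg D p)
include h

theorem Cfg.μ_zero : D.μ 0 = 1 := by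
  have := h.μ_add 0 0
  rwa [add_zero, eq_comm, mul_eq_left] at this

theorem Cfg.u_zero : D.u 0 = 1 := by
  have := h.u_add 0 0
  rwa [add_zero, eq_comm, mul_eq_left] at this

theorem Cfg.d_one : D.d 1 = 1 := by
  have := h.d_mul 1 1
  rwa [mul_one, eq_comm, mul_eq_left] at this

theorem Cfg.μ_neg (x : F × F × F) : D.μ (-x) = (D.μ x)⁻¹ := by
  refine eq_inv_of_mul_eq_one_left ?_
  rw [← h.μ_add, neg_add_cancel, h.μ_zero]

theorem Cfg.u_neg (t : F) : D.u (-t) = (D.u t)⁻¹ := by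
  refine eq_inv_of_mul_eq_one_left ?_
  rw [← h.u_add, neg_add_cancel, h.u_zero]

theorem Cfg.d_inv (s : Fˣ) : D.d s⁻¹ = (D.d s)⁻¹ := by
  refine eq_inv_of_mul_eq_one_left ?_
  rw [← h.d_mul, inv_mul_cancel, h.d_one]

theorem Cfg.μ_injective : Function.Injective D.μ := fun x y e => by
  have h1 : D.μ (x - y) * D.u 0 * D.d 1 = 1 := by
    rw [h.u_zero, h.d_one, mul_one, mul_one, sub_eq_add_neg, h.μ_add, h.μ_neg, e, mul_inv_cancel]
  exact sub_eq_zero.1 (h.eq_one _ _ _ h1).1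

theorem Cfg.mem_M {g : G} : g ∈ D.M ↔ ∃ x, g = D.μ x := by
  constructor
  · intro hg
    induction hg using Subgroup.closure_induction with
    | mem g hg => exact ⟨hg.choose, hg.choose_spec.symm⟩
    | one => exact ⟨0, h.μ_zero.symm⟩
    | mul a b _ _ ha hb =>
      obtain ⟨x, rfl⟩ := ha
      obtain ⟨y, rfl⟩ := hb
      exact ⟨x + y, (h.μ_add x y).symm⟩
    | inv a _ ha =>
      obtain ⟨x, rfl⟩ := ha
      exact ⟨-x, (h.μ_neg x).symm⟩
  · rintro ⟨x, rfl⟩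
    exact Subgroup.subset_closure ⟨x, rfl⟩

theorem Cfg.μ_cj {n : G} (hn : n ∈ D.N) (x : F × F × F) : D.μ (D.cj n x) = n * D.μ x * n⁻¹ := by
  have : n * D.μ x * n⁻¹ ∈ D.M :=
    (Subgroup.mem_normalizer_iff.1 hn _).1 (h.mem_M.2 ⟨x, rfl⟩)
  obtain ⟨y, hy⟩ := h.mem_M.1 this
  exact Function.invFun_eq ⟨y, hy.symm⟩

theorem Cfg.cj_eq {n : G} {x y : F × F × F} (e : n * D.μ x = D.μ y * n) : D.cj n x = y := by
  unfold Data.cj
  rw [e, mul_inv_cancel_right]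
  exact Function.leftInverse_invFun h.μ_injective y

theorem Cfg.cj_mul {m n : G} (hn : n ∈ D.N) (x : F × F × F) :
    D.cj (m * n) x = D.cj m (D.cj n x) := by
  unfold Data.cj
  rw [show Function.invFun D.μ (n * D.μ x * n⁻¹) = D.cj n x from rfl, h.μ_cj hn]
  congr 1
  group

theorem Cfg.cj_one (x : F × F × F) : D.cj 1 x = x := h.cj_eq (by rw [one_mul, mul_one])

theorem Cfg.cj_inv_cj {n : G} (hn : n ∈ D.N) (x : F × F × F) : D.cj n⁻¹ (D.cj n x) = x := by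
  rw [← h.cj_mul hn, inv_mul_cancel, h.cj_one]

theorem Cfg.cj_cj_inv {n : G} (hn : n ∈ D.N) (x : F × F × F) : D.cj n (D.cj n⁻¹ x) = x := by
  rw [← h.cj_mul (inv_mem hn), mul_inv_cancel, h.cj_one]

theorem Cfg.cj_add {n : G} (hn : n ∈ D.N) (x y : F × F × F) :
    D.cj n (x + y) = D.cj n x + D.cj n y := by
  refine h.μ_injective ?_
  rw [h.μ_cj hn, h.μ_add, h.μ_add, h.μ_cj hn, h.μ_cj hn]
  group

theorem Cfg.cj_zero {n : G} (hn : n ∈ D.N) : D.cj n 0 = 0 := by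
  refine h.μ_injective ?_
  rw [h.μ_cj hn, h.μ_zero, mul_one, mul_inv_cancel]

theorem Cfg.cj_inj {n : G} (hn : n ∈ D.N) {x y : F × F × F} (e : D.cj n x = D.cj n y) : x = y := by
  rw [← h.cj_inv_cj hn x, e, h.cj_inv_cj hn]

theorem Cfg.μ_mem_C (x : F × F × F) : D.μ x ∈ D.C := by
  rw [Data.C, Subgroup.mem_centralizer_singleton_iff, ← h.μ_add, ← h.μ_add, add_comm]

theorem Cfg.u_mem_C (t : F) : D.u t ∈ D.C := by
  rw [Data.C, Subgroup.mem_centralizer_singleton_iff, h.μu]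
  congr 2
  simp

theorem Cfg.d_mem_C (s : Fˣ) : D.d s ∈ D.C := by
  rw [Data.C, Subgroup.mem_centralizer_singleton_iff, h.μd]
  congr 2
  simp

theorem Cfg.mem_N_of {g : G} (f : F × F × F → F × F × F) (hf : ∀ x, g * D.μ x = D.μ (f x) * g) :
    g ∈ D.N := by
  refine Subgroup.mem_normalizer_fintype (fun n hn => ?_) |> fun h' => h'
  obtain ⟨x, rfl⟩ := h.mem_M.1 hn
  rw [hf x, mul_inv_cancel_right]
  exact h.mem_M.2 ⟨_, rfl⟩

theorem Cfg.μ_mem_N (x : F × F × F) : D.μ x ∈ D.N :=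
  h.mem_N_of id fun y => by rw [id, ← h.μ_add, ← h.μ_add, add_comm]

theorem Cfg.u_mem_N (t : F) : D.u t ∈ D.N :=
  h.mem_N_of (fun x => (x.1 + 2 * t * x.2.1 + t * t * x.2.2, x.2.1 + t * x.2.2, x.2.2))
    fun x => h.μu t x.1 x.2.1 x.2.2

theorem Cfg.d_mem_N (s : Fˣ) : D.d s ∈ D.N :=
  h.mem_N_of (fun x => (x.1, s * x.2.1, s * s * x.2.2)) fun x => h.μd s x.1 x.2.1 x.2.2

theorem Cfg.cj_μ (y x : F × F × F) : D.cj (D.μ y) x = x :=
  h.cj_eq (by rw [← h.μ_add, ← h.μ_add, add_comm])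

theorem Cfg.cj_u (t a b c : F) :
    D.cj (D.u t) (a, b, c) = (a + 2 * t * b + t * t * c, b + t * c, c) :=
  h.cj_eq (h.μu t a b c)

theorem Cfg.cj_d (s : Fˣ) (a b c : F) : D.cj (D.d s) (a, b, c) = (a, s * b, s * s * c) :=
  h.cj_eq (h.μd s a b c)

theorem Cfg.cj_mud (y : F × F × F) (t : F) (s : Fˣ) (a b c : F) :
    D.cj (D.μ y * D.u t * D.d s) (a, b, c) =
      (a + 2 * t * (s * b) + t * t * (s * s * c), s * b + t * (s * s * c), s * s * c) := by
  rw [h.cj_mul (h.d_mem_N s), h.cj_mul (h.u_mem_N t), h.cj_μ, h.cj_d, h.cj_u]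

/-- Elements of the normaliser fixing one nonzero element of the first point lie in `C`. -/
theorem Cfg.mem_C_of_fix {g : G} (hg : g ∈ D.N) {a : F} (ha : a ≠ 0)
    (e : D.cj g (a, 0, 0) = (a, 0, 0)) : g ∈ D.C := by
  rw [← h.cent a ha, Subgroup.mem_centralizer_singleton_iff]
  have := h.μ_cj hg (a, 0, 0)
  rw [e] at this
  conv_rhs => rw [this, inv_mul_cancel_right]

theorem Cfg.shape {g : G} (hgC : g ∈ D.C) (hg : g ∈ D.N) :
    ∃ (t : F) (s : Fˣ), ∀ a b c, D.cj g (a, b, c) =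
      (a + 2 * t * (s * b) + t * t * (s * s * c), s * b + t * (s * s * c), s * s * c) := by
  obtain ⟨x, t, s, rfl⟩ := h.normC g hgC hg
  exact ⟨t, s, fun a b c => h.cj_mud x t s a b c⟩

theorem Cfg.fix_of_mem_C {g : G} (hgC : g ∈ D.C) (hg : g ∈ D.N) (a : F) :
    D.cj g (a, 0, 0) = (a, 0, 0) := by
  obtain ⟨t, s, e⟩ := h.shape hgC hg
  rw [e]; simp

theorem Cfg.mem_pt_one {x : F × F × F} : x ∈ D.pt 1 ↔ x.2 = 0 := by
  constructor
  · rintro ⟨a, rfl⟩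
    show (D.cj 1 (a, 0, 0)).2 = 0
    rw [h.cj_one]; rfl
  · intro e
    exact ⟨x.1, (h.cj_one _).trans (Prod.ext rfl e.symm)⟩

theorem Cfg.pt_mul {m n : G} (hn : n ∈ D.N) : D.pt (m * n) = D.cj m '' D.pt n := by
  rw [Data.pt, Data.pt, ← Set.range_comp]
  exact congrArg Set.range (funext fun a => h.cj_mul hn _)

/-- An element of the normaliser mapping a nonzero central element to a central element fixes the
first point. -/
theorem Cfg.conj_C {n : G} (hn : n ∈ D.N) {a a' : F} (ha : a ≠ 0)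
    (e : D.cj n (a, 0, 0) = (a', 0, 0)) : ∀ g, g ∈ D.C → n * g * n⁻¹ ∈ D.C := by
  intro g hg
  have ha' : a' ≠ 0 := by
    rintro rfl
    refine ha (congrArg Prod.fst (h.cj_inj hn (e.trans ?_) : (a, 0, 0) = (0 : F × F × F)))
    exact (h.cj_zero hn).symm
  rw [← h.cent a' ha', Subgroup.mem_centralizer_singleton_iff, ← e, h.μ_cj hn]
  rw [← h.cent a ha, Subgroup.mem_centralizer_singleton_iff] at hg
  calc n * g * n⁻¹ * (n * D.μ (a, 0, 0) * n⁻¹) = n * (g * D.μ (a, 0, 0)) * n⁻¹ := by group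
    _ = n * (D.μ (a, 0, 0) * g) * n⁻¹ := by rw [hg]
    _ = _ := by group

theorem Cfg.pt_subset {n : G} (hn : n ∈ D.N) {a a' : F} (ha : a ≠ 0)
    (e : D.cj n (a, 0, 0) = (a', 0, 0)) (y : F) : (D.cj n (y, 0, 0)).2 = 0 := by
  have e' : D.cj n⁻¹ (a', 0, 0) = (a, 0, 0) := by rw [← e, h.cj_inv_cj hn]
  have ha' : a' ≠ 0 := by
    rintro rfl
    refine ha (congrArg Prod.fst (h.cj_inj hn (e.trans ?_) : (a, 0, 0) = (0 : F × F × F)))
    exact (h.cj_zero hn).symm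
  obtain ⟨b, hb⟩ := h.centre (D.μ (D.cj n (y, 0, 0))) (h.μ_mem_C _) fun g hg => by
    have hg' := h.conj_C (inv_mem hn) ha' e' g hg
    rw [inv_inv] at hg'
    have hc : n⁻¹ * g * n * D.μ (y, 0, 0) = D.μ (y, 0, 0) * (n⁻¹ * g * n) := by
      by_cases hy : y = 0
      · subst hy
        rw [show ((0 : F), (0 : F), (0 : F)) = 0 from rfl, h.μ_zero, mul_one, one_mul]
      · rw [← h.cent y hy, Subgroup.mem_centralizer_singleton_iff] at hg'
        exact hg'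
    rw [h.μ_cj hn]
    calc g * (n * D.μ (y, 0, 0) * n⁻¹) = n * ((n⁻¹ * g * n) * D.μ (y, 0, 0)) * n⁻¹ := by group
      _ = n * (D.μ (y, 0, 0) * (n⁻¹ * g * n)) * n⁻¹ := by rw [hc]
      _ = _ := by group
  rw [h.μ_injective hb]; rfl

theorem Cfg.pt_eq_one {n : G} (hn : n ∈ D.N) {a a' : F} (ha : a ≠ 0)
    (e : D.cj n (a, 0, 0) = (a', 0, 0)) : D.pt n = D.pt 1 := by
  have e' : D.cj n⁻¹ (a', 0, 0) = (a, 0, 0) := by rw [← e, h.cj_inv_cj hn]
  have ha' : a' ≠ 0 := by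
    rintro rfl
    refine ha (congrArg Prod.fst (h.cj_inj hn (e.trans ?_) : (a, 0, 0) = (0 : F × F × F)))
    exact (h.cj_zero hn).symm
  refine Set.Subset.antisymm ?_ fun x hx => ?_
  · rintro _ ⟨y, rfl⟩
    exact h.mem_pt_one.2 (h.pt_subset hn ha e y)
  · have h2 := h.pt_subset (inv_mem hn) ha' e' x.1
    have hx' : ((x.1, 0, 0) : F × F × F) = x := Prod.ext rfl (h.mem_pt_one.1 hx).symm
    rw [hx'] at h2
    refine ⟨(D.cj n⁻¹ x).1, ?_⟩
    show D.cj n ((D.cj n⁻¹ x).1, 0, 0) = x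
    rw [show (((D.cj n⁻¹ x).1, 0, 0) : F × F × F) = D.cj n⁻¹ x from Prod.ext rfl h2.symm,
      h.cj_cj_inv hn]

/-- Two points sharing a nonzero element coincide. -/
theorem Cfg.pt_eq_of_mem {m n : G} (hm : m ∈ D.N) (hn : n ∈ D.N) {x : F × F × F} (hx : x ≠ 0)
    (h1 : x ∈ D.pt m) (h2 : x ∈ D.pt n) : D.pt n = D.pt m := by
  obtain ⟨a, rfl⟩ := h1
  obtain ⟨b, hb⟩ := h2
  have hb0 : b ≠ 0 := by
    rintro rfl
    exact hx (hb.symm.trans (h.cj_zero hn))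
  have e : D.cj (m⁻¹ * n) (b, 0, 0) = (a, 0, 0) := by
    rw [h.cj_mul hn]
    exact (congrArg (D.cj m⁻¹) hb).trans (h.cj_inv_cj hm _)
  have := h.pt_eq_one (mul_mem (inv_mem hm) hn) hb0 e
  rw [← mul_inv_cancel_left m n, h.pt_mul (mul_mem (inv_mem hm) hn), this, ← h.pt_mul (one_mem _),
    mul_one]

/-- An element fixing a nonzero element of a point fixes the point pointwise. -/
theorem Cfg.fix_pt {g n : G} (hg : g ∈ D.N) (hn : n ∈ D.N) {x : F × F × F} (hx : x ≠ 0)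
    (hx' : x ∈ D.pt n) (e : D.cj g x = x) : ∀ y ∈ D.pt n, D.cj g y = y := by
  obtain ⟨a, ha⟩ := hx'
  have ha' : D.cj n (a, 0, 0) = x := ha
  have ha0 : a ≠ 0 := by
    rintro rfl
    exact hx (ha'.symm.trans (h.cj_zero hn))
  have hgn : n⁻¹ * g * n ∈ D.N := mul_mem (mul_mem (inv_mem hn) hg) hn
  have hC := h.mem_C_of_fix hgn ha0 (by
    rw [h.cj_mul hn, h.cj_mul hg, ha', e, ← ha', h.cj_inv_cj hn])
  rintro _ ⟨b, rfl⟩
  show D.cj g (D.cj n (b, 0, 0)) = D.cj n (b, 0, 0)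
  have hb := h.fix_of_mem_C hC hgn b
  rw [h.cj_mul hn, h.cj_mul hg] at hb
  conv_rhs => rw [← hb, h.cj_cj_inv hn]

theorem Cfg.pt_add {n : G} (hn : n ∈ D.N) {x y : F × F × F} (hx : x ∈ D.pt n) (hy : y ∈ D.pt n) :
    x + y ∈ D.pt n := by
  obtain ⟨a, rfl⟩ := hx
  obtain ⟨b, rfl⟩ := hy
  refine ⟨a + b, ?_⟩
  show D.cj n (a + b, 0, 0) = D.cj n (a, 0, 0) + D.cj n (b, 0, 0)
  rw [← h.cj_add hn]
  simp

theorem Cfg.pt_neg {n : G} (hn : n ∈ D.N) {x : F × F × F} (hx : x ∈ D.pt n) : -x ∈ D.pt n := by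
  obtain ⟨a, rfl⟩ := hx
  refine ⟨-a, eq_neg_of_add_eq_zero_left ?_⟩
  show D.cj n (-a, 0, 0) + D.cj n (a, 0, 0) = 0
  rw [← h.cj_add hn]
  convert h.cj_zero hn using 2
  simp

end CfsgLib.Recog.SpFourP
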