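import Cfsg.Agent.Lib.Recog.SpFourP.Points

/-!
There are exactly `q + 1` points.
-/

set_option autoImplicit false
set_option linter.unusedSectionVars false

namespace CfsgLib.Recog.SpFourP

open Subgroup
open scoped Pointwise

/-- Double counting over a conjugacy class and a transitive set. -/
theorem card_class_mul_card_fix {R X : Type*} [Group R] [Finite R] [MulAction R X] [Finite X]
    (htr : ∀ x y : X, ∃ r : R, r • x = y) (i : R) (x₀ : X) :
    Nat.card {j : R // IsConj i j} * Nat.card {x : X // i • x = x} =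
      Nat.card X * Nat.card {j : R // IsConj i j ∧ j • x₀ = x₀} := by
  classical
  have := Fintype.ofFinite R
  have := Fintype.ofFinite X
  have e1 : {q : {j : R // IsConj i j} × X // (q.1 : R) • q.2 = q.2} ≃
      {j : R // IsConj i j} × {x : X // i • x = x} :=
    { toFun := fun q => ⟨q.1.1, ⟨(isConj_iff.1 q.1.1.2).choose⁻¹ • q.1.2, by
        have hc := (isConj_iff.1 q.1.1.2).choose_spec
        generalize (isConj_iff.1 q.1.1.2).choose = c at hc ⊢
        have h2 := q.2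
        rw [← hc, mul_smul, mul_smul] at h2
        exact (eq_inv_smul_iff.2 h2)⟩⟩
      invFun := fun q => ⟨(q.1, (isConj_iff.1 q.1.2).choose • (q.2 : X)), by
        have hc := (isConj_iff.1 q.1.2).choose_spec
        generalize (isConj_iff.1 q.1.2).choose = c at hc ⊢
        show (q.1 : R) • c • (q.2 : X) = c • (q.2 : X)
        rw [← hc, mul_smul, mul_smul, inv_smul_smul, q.2.2]⟩
      left_inv := fun q => Subtype.ext (Prod.ext rfl (smul_inv_smul _ _))
      right_inv := fun q => Prod.ext rfl (Subtype.ext (inv_smul_smul _ _)) }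
  have e2 : {q : {j : R // IsConj i j} × X // (q.1 : R) • q.2 = q.2} ≃
      X × {j : R // IsConj i j ∧ j • x₀ = x₀} :=
    { toFun := fun q => ⟨q.1.2, ⟨(htr x₀ q.1.2).choose⁻¹ * q.1.1 * (htr x₀ q.1.2).choose, by
        have hc := (htr x₀ q.1.2).choose_spec
        generalize (htr x₀ q.1.2).choose = c at hc ⊢
        refine ⟨q.1.1.2.trans (isConj_iff.2 ⟨c⁻¹, by rw [inv_inv]⟩), ?_⟩
        rw [mul_smul, mul_smul, hc, q.2, inv_smul_eq_iff, hc]⟩⟩
      invFun := fun q => ⟨(⟨(htr x₀ q.1).choose * q.2 * (htr x₀ q.1).choose⁻¹,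
          q.2.2.1.trans (isConj_iff.2 ⟨_, rfl⟩)⟩, q.1), by
        have hc := (htr x₀ q.1).choose_spec
        generalize (htr x₀ q.1).choose = c at hc ⊢
        show (c * q.2 * c⁻¹) • q.1 = q.1
        rw [← hc, mul_smul, mul_smul, inv_smul_smul, q.2.2.2]⟩
      left_inv := fun q => Subtype.ext (Prod.ext (Subtype.ext (by simp [mul_assoc])) rfl)
      right_inv := fun q => Prod.ext rfl (Subtype.ext (by simp [mul_assoc])) }
  rw [← Nat.card_prod, ← Nat.card_prod]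
  exact Nat.card_congr (e1.symm.trans e2)

theorem card_class_mul_card_centralizer {R : Type*} [Group R] [Finite R] (i : R) :
    Nat.card {j : R // IsConj i j} * Nat.card (Subgroup.centralizer ({i} : Set R)) = Nat.card R := by
  classical
  have := Fintype.ofFinite R
  have h := MulAction.index_stabilizer (ConjAct R) i
  have h1 := (MulAction.stabilizer (ConjAct R) i).card_mul_index
  rw [h, ← Nat.card_coe_set_eq] at h1
  have h2 : Nat.card {j : R // IsConj i j} = Nat.card (MulAction.orbit (ConjAct R) i) :=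
    Nat.card_congr (Equiv.subtypeEquivRight fun j => by rw [ConjAct.mem_orbit_conjAct]; exact isConj_comm)
  have h3 : Nat.card (Subgroup.centralizer ({i} : Set R)) = Nat.card (MulAction.stabilizer (ConjAct R) i) :=
    Nat.card_congr ((ConjAct.toConjAct (G := R)).toEquiv.subtypeEquiv fun g => by
      show g ∈ Subgroup.centralizer ({i} : Set R) ↔ ConjAct.toConjAct g • i = i
      rw [Subgroup.mem_centralizer_singleton_iff, ConjAct.toConjAct_smul, mul_inv_eq_iff_eq_mul])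
  rw [h2, h3, mul_comm, h1]
  exact Nat.card_congr ConjAct.ofConjAct.toEquiv

variable {G : Type*} [Group G] [Finite G] {F : Type*} [Field F] [Finite F]
  {D : Data G F} {p : ℕ} (h : Cfg D p)
include h

/-- Conjugation on `M` as a permutation representation of the normaliser. -/
noncomputable def Cfg.ρ : ↥D.N →* Equiv.Perm (F × F × F) where
  toFun n :=
    { toFun := D.cj n
      invFun := D.cj (n : G)⁻¹
      left_inv := h.cj_inv_cj n.2
      right_inv := h.cj_cj_inv n.2 }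
  map_one' := Equiv.ext h.cj_one
  map_mul' m n := Equiv.ext fun x => h.cj_mul n.2 x

theorem Cfg.ρ_apply (n : ↥D.N) (x : F × F × F) : h.ρ n x = D.cj n x := rfl

theorem Cfg.ρ_smul (n : ↥D.N) (m : G) (hm : m ∈ D.N) : h.ρ n • D.pt m = D.pt ((n : G) * m) :=
  h.image_pt hm

theorem Cfg.ρ_u_injective : Function.Injective fun t : F => h.ρ ⟨D.u t, h.u_mem_N t⟩ := fun t t' e => by
  have := DFunLike.congr_fun e ((0 : F), (0 : F), (1 : F))
  simp only [h.ρ_apply, h.cj_u, Prod.mk.injEq] at this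
  linear_combination this.2.1

/-- The conjugates of the involution fixing the first point. -/
theorem Cfg.exists_fix_class (j : ↥h.ρ.range)
    (hj : IsConj (⟨h.ρ ⟨D.ι, h.ι_mem⟩, _, rfl⟩ : ↥h.ρ.range) j)
    (hjfix : (j : Equiv.Perm (F × F × F)) • D.pt 1 = D.pt 1) :
    ∃ s : F, (j : Equiv.Perm (F × F × F)) = h.ρ ⟨D.u s, h.u_mem_N s⟩ * h.ρ ⟨D.ι, h.ι_mem⟩ := by
  obtain ⟨c, hc⟩ := isConj_iff.1 hj
  obtain ⟨⟨_, nc, rfl⟩, hcd⟩ : ∃ c', c' = c := ⟨c, rfl⟩
  subst hcd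
  have hjval : (j : Equiv.Perm (F × F × F)) = h.ρ (nc * ⟨D.ι, h.ι_mem⟩ * nc⁻¹) := by
    rw [← hc, map_mul, map_mul, map_inv]; rfl
  obtain ⟨n, hn⟩ : ∃ n : ↥D.N, n = nc * ⟨D.ι, h.ι_mem⟩ * nc⁻¹ := ⟨_, rfl⟩
  rw [← hn] at hjval
  have hsq : (n : ↥D.N) * n = nc * (⟨D.ι, h.ι_mem⟩ * ⟨D.ι, h.ι_mem⟩) * nc⁻¹ := by rw [hn]; group
  have hsq1 : (⟨D.ι, h.ι_mem⟩ : ↥D.N) * ⟨D.ι, h.ι_mem⟩ = 1 :=
    Subtype.ext (by show D.d (-1) * D.d (-1) = 1; rw [← h.d_mul, neg_mul_neg, mul_one, h.d_one])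
  rw [hsq1, mul_one, mul_inv_cancel] at hsq
  have hpt : D.pt ((nc : G)⁻¹) = D.cj D.ι '' D.pt ((nc : G)⁻¹) := by
    rw [hjval, hn, h.ρ_smul _ _ (one_mem _), mul_one] at hjfix
    rw [h.image_pt (inv_mem nc.2)]
    have h2 := congrArg (fun S => D.cj ((nc : G)⁻¹) '' S) hjfix
    simp only [h.image_pt (one_mem _), mul_one] at h2
    simp only [Subgroup.coe_mul, Subgroup.coe_inv] at h2
    rw [h.image_pt (mul_mem (mul_mem nc.2 h.ι_mem) (inv_mem nc.2))] at h2
    simp only [mul_assoc, inv_mul_cancel_left] at h2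
    exact h2.symm
  have hpoint := h.ι_fix (inv_mem nc.2) hpt.symm
  have h1 : D.cj (n : G) (1, 0, 0) = (1, 0, 0) := by
    have h3 := hpoint (D.cj (nc : G)⁻¹ (1, 0, 0)) ⟨1, rfl⟩
    rw [hn]
    simp only [Subgroup.coe_mul, Subgroup.coe_inv]
    rw [h.cj_mul (inv_mem nc.2), h.cj_mul h.ι_mem, h3, h.cj_cj_inv nc.2]
  obtain ⟨t, s, e⟩ := h.shape (h.mem_C_of_fix n.2 one_ne_zero h1) n.2
  have he2 : ∀ x, D.cj (n : G) (D.cj (n : G) x) = x := fun x => by
    rw [← h.cj_mul n.2, ← Subgroup.coe_mul, hsq]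
    exact h.cj_one x
  have h2 := h.two_ne
  have hs4 := congrArg (fun x => x.2.2) (he2 (0, 0, 1))
  simp only [e, mul_one] at hs4
  have hs2 : (s : F) * s = 1 := by
    rcases mul_self_eq_one_iff.1 hs4 with h4 | h4
    · exact h4
    · exfalso
      have := Fintype.ofFinite F
      have : IsSquare (-1 : F) := ⟨(s : F), h4.symm⟩
      have h5 := FiniteField.isSquare_neg_one_iff.1 this
      rw [← Nat.card_eq_fintype_card] at h5
      exact h5 h.mod4
  rcases mul_self_eq_one_iff.1 hs2 with hs | hs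
  · exfalso
    have h5 := congrArg (fun x => x.2.1) (he2 (0, 0, 1))
    simp only [e, hs, mul_one, one_mul, mul_zero, zero_add] at h5
    have ht : t = 0 := by
      have : (2 : F) * t = 0 := by linear_combination h5
      exact (mul_eq_zero.1 this).resolve_left h2
    have hn1 : h.ρ n = 1 := Equiv.ext fun ⟨a, b, c⟩ => by
      rw [h.ρ_apply, e, ht, hs]; simp
    have hι1 : h.ρ ⟨D.ι, h.ι_mem⟩ = 1 := by
      have : (⟨D.ι, h.ι_mem⟩ : ↥D.N) = nc⁻¹ * n * nc := by rw [hn]; group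
      rw [this, map_mul, map_mul, map_inv, hn1, mul_one, inv_mul_cancel]
    have h6 := congrArg (fun x => x.2.1) (DFunLike.congr_fun hι1 ((0 : F), (1 : F), (0 : F)))
    simp only [h.ρ_apply, h.cj_ι, Equiv.Perm.coe_one, id_eq] at h6
    exact h2 (by linear_combination (-1 : F) * h6)
  · refine ⟨t, ?_⟩
    rw [hjval, ← map_mul]
    refine Equiv.ext fun ⟨a, b, c⟩ => ?_
    rw [h.ρ_apply, h.ρ_apply, Subgroup.coe_mul, h.cj_mul h.ι_mem, h.cj_ι, h.cj_u, e, hs]
    refine Prod.ext ?_ (Prod.ext ?_ ?_) <;> simp <;> ring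

theorem Cfg.card_fix_class :
    Nat.card {j : ↥h.ρ.range // IsConj (⟨h.ρ ⟨D.ι, h.ι_mem⟩, _, rfl⟩ : ↥h.ρ.range) j ∧
      (j : Equiv.Perm (F × F × F)) • D.pt 1 = D.pt 1} = Nat.card F := by
  classical
  obtain ⟨i, hi⟩ : ∃ i : ↥h.ρ.range, i = ⟨h.ρ ⟨D.ι, h.ι_mem⟩, _, rfl⟩ := ⟨_, rfl⟩
  let U : F → ↥h.ρ.range := fun t => ⟨h.ρ ⟨D.u t, h.u_mem_N t⟩, _, rfl⟩
  have hUadd : ∀ s t, U (s + t) = U s * U t := fun s t => Subtype.ext (by
    show h.ρ _ = h.ρ _ * h.ρ _
    rw [← map_mul]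
    exact congrArg h.ρ (Subtype.ext (h.u_add s t)))
  have hflip : ∀ t, i * U t = U (-t) * i := fun t => Subtype.ext (Equiv.ext fun ⟨a, b, c⟩ => by
    subst hi
    show D.cj D.ι (D.cj (D.u t) (a, b, c)) = D.cj (D.u (-t)) (D.cj D.ι (a, b, c))
    rw [h.cj_u, h.cj_ι, h.cj_ι, h.cj_u]
    refine Prod.ext ?_ (Prod.ext ?_ rfl) <;> simp <;> ring)
  have hU0 : ∀ t, U t * U (-t) = 1 := fun t => by
    rw [← hUadd, add_neg_cancel]
    refine Subtype.ext (Equiv.ext fun x => ?_)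
    show D.cj (D.u 0) x = x
    rw [h.u_zero, h.cj_one]
  have hUinv : ∀ t, (U t)⁻¹ = U (-t) := fun t => inv_eq_of_mul_eq_one_right (hU0 t)
  have hpt1 : D.pt 1 = D.pt ((1 : G) * 1) := by rw [mul_one]
  have hUfix : ∀ t, (U t : Equiv.Perm (F × F × F)) • D.pt 1 = D.pt 1 := fun t => by
    rw [show (U t : Equiv.Perm (F × F × F)) = h.ρ ⟨D.u t, h.u_mem_N t⟩ from rfl, h.ρ_smul _ _ (one_mem _)]
    exact h.pt_eq_one (mul_mem (h.u_mem_N t) (one_mem _)) one_ne_zero (a' := 1)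
      (by rw [mul_one, h.cj_u]; simp)
  have hifix : (i : Equiv.Perm (F × F × F)) • D.pt 1 = D.pt 1 := by
    subst hi
    rw [h.ρ_smul _ _ (one_mem _)]
    exact h.pt_eq_one (mul_mem h.ι_mem (one_mem _)) one_ne_zero (a' := 1)
      (by rw [mul_one, h.cj_ι]; simp)
  let f : F → {j : ↥h.ρ.range // IsConj i j ∧ (j : Equiv.Perm (F × F × F)) • D.pt 1 = D.pt 1} :=
    fun t => ⟨U t * i, isConj_iff.2 ⟨U (t / 2), by
      rw [hUinv, mul_assoc, hflip, neg_neg, ← mul_assoc, ← hUadd]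
      congr 2
      have := h.two_ne
      field_simp
      ring⟩, by rw [Subgroup.coe_mul, mul_smul, hifix, hUfix]⟩
  subst hi
  refine (Nat.card_congr (Equiv.ofBijective f ⟨fun t t' e => ?_, ?_⟩)).symm
  · exact h.ρ_u_injective (congrArg Subtype.val (mul_right_cancel (congrArg Subtype.val e)))
  rintro ⟨j, hj, hjfix⟩
  obtain ⟨t, ht⟩ := h.exists_fix_class j hj hjfix
  exact ⟨t, Subtype.ext (Subtype.ext ht.symm)⟩

/-- The index of the centraliser of the involution is divisible by `q`. -/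
theorem Cfg.card_dvd_class (n : ℕ) (hF : Nat.card F = p ^ n) :
    p ^ n ∣ Nat.card {j : ↥h.ρ.range // IsConj (⟨h.ρ ⟨D.ι, h.ι_mem⟩, _, rfl⟩ : ↥h.ρ.range) j} := by
  classical
  have : Fact p.Prime := ⟨h.prime⟩
  obtain ⟨i, hi⟩ : ∃ i : ↥h.ρ.range, i = ⟨h.ρ ⟨D.ι, h.ι_mem⟩, _, rfl⟩ := ⟨_, rfl⟩
  rw [← hi]
  have hU : p ^ n ∣ Nat.card ↥h.ρ.range := by
    let φ : Multiplicative F →* ↥h.ρ.range :=
      { toFun := fun t => ⟨h.ρ ⟨D.u t.toAdd, h.u_mem_N _⟩, _, rfl⟩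
        map_one' := Subtype.ext (Equiv.ext fun x => by
          show D.cj (D.u 0) x = x
          rw [h.u_zero, h.cj_one])
        map_mul' := fun s t => Subtype.ext (by
          show h.ρ _ = h.ρ _ * h.ρ _
          rw [← map_mul]
          exact congrArg h.ρ (Subtype.ext (h.u_add _ _))) }
    have hφ : Function.Injective φ := fun s t e => Multiplicative.toAdd.injective
      (h.ρ_u_injective (congrArg Subtype.val e))
    have := Subgroup.card_dvd_of_injective φ hφ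
    rwa [Nat.card_congr (Multiplicative.toAdd (α := F)), hF] at this
  rw [← card_class_mul_card_centralizer i] at hU
  refine (Nat.Coprime.dvd_of_dvd_mul_right (Nat.Coprime.pow_left _ ?_) hU)
  rw [Nat.Prime.coprime_iff_not_dvd h.prime]
  intro hd
  obtain ⟨r, hr⟩ := exists_prime_orderOf_dvd_card' p hd
  obtain ⟨P, hP⟩ := h.psyl
  have hPN : (P : Subgroup G) ≤ D.N := fun y hy => by
    obtain ⟨x, t, rfl⟩ := (hP y).1 hy
    exact mul_mem (h.μ_mem_N _) (h.u_mem_N _)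
  let Q : Sylow p ↥h.ρ.range := (P.subtype hPN).mapSurjective h.ρ.rangeRestrict_surjective
  have hrp : IsPGroup p (Subgroup.zpowers (r : ↥h.ρ.range)) := IsPGroup.iff_card.2 ⟨1, by
    rw [Nat.card_zpowers, Subgroup.orderOf_coe, hr, pow_one]⟩
  obtain ⟨Q', hQ'⟩ := hrp.exists_le_sylow
  obtain ⟨y, hy⟩ := MulAction.exists_smul_eq ↥h.ρ.range Q' Q
  have hmem : y * (r : ↥h.ρ.range) * y⁻¹ ∈ (Q : Subgroup ↥h.ρ.range) := by
    rw [← hy, Sylow.coe_subgroup_smul]
    exact ⟨(r : ↥h.ρ.range), hQ' (Subgroup.mem_zpowers _), by simp⟩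
  rw [Sylow.coe_mapSurjective, Sylow.coe_subtype, Subgroup.mem_map] at hmem
  obtain ⟨⟨g, hgN⟩, hg, hgr⟩ := hmem
  obtain ⟨x, t, rfl⟩ := (hP g).1 hg
  have hgu : y * (r : ↥h.ρ.range) * y⁻¹ = ⟨h.ρ ⟨D.u t, h.u_mem_N t⟩, _, rfl⟩ := by
    rw [← hgr]
    refine Subtype.ext (Equiv.ext fun v => ?_)
    show D.cj (D.μ x * D.u t) v = D.cj (D.u t) v
    rw [h.cj_mul (h.u_mem_N t), h.cj_μ]
  have ht : t ≠ 0 := by
    rintro rfl
    have h1 : y * (r : ↥h.ρ.range) * y⁻¹ = 1 := hgu.trans (Subtype.ext (Equiv.ext fun v => by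
      show D.cj (D.u 0) v = v
      rw [h.u_zero, h.cj_one]))
    rw [mul_inv_eq_one, mul_eq_left, OneMemClass.coe_eq_one] at h1
    rw [h1, orderOf_one] at hr
    exact h.prime.ne_one hr.symm
  obtain ⟨u', hu'⟩ : ∃ u' : ↥h.ρ.range, u' = ⟨h.ρ ⟨D.u t, h.u_mem_N t⟩, _, rfl⟩ := ⟨_, rfl⟩
  rw [← hu'] at hgu
  obtain ⟨j, hj⟩ : ∃ j, j = y * i * y⁻¹ := ⟨_, rfl⟩
  have hcomm : u' * j = j * u' := by
    have := Subgroup.mem_centralizer_singleton_iff.1 r.2
    rw [← hgu, hj]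
    calc y * (r : ↥h.ρ.range) * y⁻¹ * (y * i * y⁻¹) = y * ((r : ↥h.ρ.range) * i) * y⁻¹ := by group
      _ = y * (i * (r : ↥h.ρ.range)) * y⁻¹ := by rw [this]
      _ = _ := by group
  have hjfix : (j : Equiv.Perm (F × F × F)) • D.pt 1 = D.pt 1 := by
    obtain ⟨_, n, rfl⟩ := j
    show h.ρ n • D.pt 1 = D.pt 1
    rw [h.ρ_smul _ _ (one_mem _), mul_one]
    refine h.eq_one_of_u_fix n.2 ht ?_
    have h7 := congrArg (fun q : ↥h.ρ.range => (q : Equiv.Perm (F × F × F)) • D.pt 1) hcomm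
    simp only [hu', Subgroup.coe_mul, mul_smul] at h7
    rw [h.ρ_smul n _ (one_mem _), h.ρ_smul _ _ (mul_mem n.2 (one_mem _)), h.ρ_smul _ _ (one_mem _)] at h7
    simp only [mul_one] at h7
    have hu1 : D.pt (D.u t) = D.pt 1 := h.pt_eq_one (h.u_mem_N t) one_ne_zero (a' := 1)
      (by rw [h.cj_u]; simp)
    rw [hu1, h.ρ_smul n _ (one_mem _), mul_one] at h7
    rw [h.image_pt n.2]
    exact h7
  obtain ⟨t', h8⟩ := h.exists_fix_class j (hi ▸ isConj_iff.2 ⟨y, hj.symm⟩) hjfix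
  have h9 := DFunLike.congr_fun (congrArg Subtype.val hcomm) ((0 : F), (0 : F), (1 : F))
  simp only [hu', Subgroup.coe_mul, Equiv.Perm.mul_apply, h8, h.ρ_apply, h.cj_ι, h.cj_u] at h9
  have h10 := congrArg (fun x => x.2.1) h9
  simp at h10
  exact ht ((mul_eq_zero.1 (by linear_combination h10 : (2 : F) * t = 0)).resolve_left h.two_ne)

end CfsgLib.Recog.SpFourP
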