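import Cfsg.Agent.Lib.Recog.SpFourP.Linear
import Cfsg.Agent.Lib.Solvable.Gaschutz

/-!
The complement of `M` in its normaliser is `PGL(2, q) × C` with `C` cyclic of order `(q - 1) / 2`.
-/

set_option autoImplicit false
set_option linter.unusedSectionVars false

namespace CfsgLib.Recog.SpFourP

open Subgroup

variable {G : Type*} [Group G] [Finite G] {F : Type*} [Field F] [Finite F]

/-- Change of coordinates. -/
def Data.shift (D : Data G F) (a₀ : F) : Data G F where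
  μ x := D.μ (x.1 + a₀ * x.2.2, x.2.1, x.2.2)
  u := D.u
  d := D.d

variable {D : Data G F} {p : ℕ} (h : Cfg D p)
include h

theorem Cfg.shift_M (a₀ : F) : (D.shift a₀).M = D.M := by
  refine le_antisymm (Subgroup.closure_mono ?_) (Subgroup.closure_mono ?_)
  · rintro _ ⟨x, rfl⟩
    exact ⟨_, rfl⟩
  · rintro _ ⟨⟨a, b, c⟩, rfl⟩
    exact ⟨(a - a₀ * c, b, c), by simp [Data.shift]⟩

theorem Cfg.shift_C (a₀ : F) : (D.shift a₀).C = D.C := by
  simp [Data.C, Data.shift]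

theorem Cfg.shift_cfg {a₀ : F} (ha : ∀ s : Fˣ, a₀ * (s * s) = a₀) : Cfg (D.shift a₀) p where
  odd := h.odd
  prime := h.prime
  charp := h.charp
  mod4 := h.mod4
  μ_add x y := by
    show D.μ _ = D.μ _ * D.μ _
    rw [← h.μ_add]
    congr 1
    refine Prod.ext ?_ rfl
    show x.1 + y.1 + a₀ * (x.2.2 + y.2.2) = x.1 + a₀ * x.2.2 + (y.1 + a₀ * y.2.2)
    ring
  u_add := h.u_add
  d_mul := h.d_mul
  μu t a b c := by
    show D.u t * D.μ (a + a₀ * c, b, c) = D.μ (_ + a₀ * c, _, c) * D.u t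
    rw [h.μu]
    congr 2
    refine Prod.ext ?_ rfl
    simp only
    ring
  μd s a b c := by
    show D.d s * D.μ (a + a₀ * c, b, c) = D.μ (a + a₀ * (s * s * c), s * b, s * s * c) * D.d s
    rw [h.μd, ← mul_assoc a₀, ha]
  ud := h.ud
  eq_one x t s e := by
    obtain ⟨h1, h2, h3⟩ := h.eq_one _ t s e
    simp only [Prod.mk_eq_zero] at h1
    obtain ⟨h4, h5, h6⟩ := h1
    rw [h6, mul_zero, add_zero] at h4
    exact ⟨Prod.ext h4 (Prod.ext h5 h6), h2, h3⟩
  cent a ha' := by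
    rw [h.shift_C]
    show Subgroup.centralizer ({D.μ (a + a₀ * 0, 0, 0)} : Set G) = _
    rw [mul_zero, add_zero, h.cent a ha']
  centre z hz hc := by
    rw [h.shift_C] at hz hc
    obtain ⟨a, e⟩ := h.centre z hz hc
    exact ⟨a, e.trans (by simp [Data.shift])⟩
  normC g hg hgN := by
    rw [h.shift_C] at hg
    rw [Data.N, h.shift_M] at hgN
    obtain ⟨⟨a, b, c⟩, t, s, e⟩ := h.normC g hg hgN
    exact ⟨(a - a₀ * c, b, c), t, s, e.trans (by simp [Data.shift])⟩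
  psyl := by
    obtain ⟨P, hP⟩ := h.psyl
    refine ⟨P, fun g => (hP g).trans ⟨?_, ?_⟩⟩
    · rintro ⟨⟨a, b, c⟩, t, e⟩
      exact ⟨(a - a₀ * c, b, c), t, e.trans (by simp [Data.shift])⟩
    · rintro ⟨x, t, e⟩
      exact ⟨_, t, e⟩
  fus := by simpa [Data.shift] using h.fus

theorem Cfg.exists_coords (hmove : ∃ n ∈ D.N, D.pt n ≠ D.pt 1) :
    ∃ (D' : Data G F) (n₀ : G), Base D' p n₀ ∧ D'.M = D.M ∧ D'.u = D.u := by
  obtain ⟨a₀, n₀, hn₀, ha, hc, hcov⟩ := h.exists_base hmove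
  have h' := h.shift_cfg ha
  have hN : (D.shift a₀).N = D.N := congrArg (fun M : Subgroup G => Subgroup.normalizer (M : Set G)) (h.shift_M a₀)
  let sh : F × F × F → F × F × F := fun x => (x.1 + a₀ * x.2.2, x.2.1, x.2.2)
  have hsh : Function.Injective sh := fun x y e => by
    simp only [sh, Prod.mk.injEq] at e
    obtain ⟨e1, e2, e3⟩ := e
    rw [e3, add_left_inj] at e1
    exact Prod.ext e1 (Prod.ext e2 e3)
  have hcj : ∀ n ∈ D.N, ∀ x, sh ((D.shift a₀).cj n x) = D.cj n (sh x) := fun n hn x =>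
    h.μ_injective (((h'.μ_cj (hN.symm ▸ hn) x)).trans (h.μ_cj hn (sh x)).symm)
  have hpt : ∀ n ∈ D.N, D.pt n = sh '' (D.shift a₀).pt n := fun n hn => by
    rw [Data.pt, Data.pt, ← Set.range_comp]
    refine congrArg Set.range (funext fun a => ?_)
    show D.cj n (a, 0, 0) = sh ((D.shift a₀).cj n (a, 0, 0))
    rw [hcj n hn]
    simp [sh]
  refine ⟨D.shift a₀, n₀, { h' with mem := hN.symm ▸ hn₀, second := fun c => ?_, cover := fun n hn => ?_ },
    h.shift_M a₀, rfl⟩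
  · have h1 := hc c
    rw [hpt n₀ hn₀] at h1
    obtain ⟨x, hx, e⟩ := h1
    have : x = ((0 : F), (0 : F), c) := hsh (e.trans (by simp [sh]))
    exact this ▸ hx
  · have hn' : n ∈ D.N := hN ▸ hn
    rcases hcov n hn' with e | ⟨t, e⟩
    · left
      rw [hpt n hn', hpt 1 (one_mem _)] at e
      exact Set.image_injective.2 hsh e
    · right
      refine ⟨t, ?_⟩
      rw [hpt n hn', hpt _ (mul_mem (h.u_mem_N t) hn₀)] at e
      exact Set.image_injective.2 hsh e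

/-- Two Sylow subgroups in the normaliser move the first point. -/
theorem Cfg.hmove [Fact p.Prime] {M : Subgroup G} (hM : D.M = M)
    (hnc : ∃ Q R : Sylow p ↥(Subgroup.normalizer (M : Set G)), Q ≠ R) :
    ∃ n ∈ D.N, D.pt n ≠ D.pt 1 := by
  subst hM
  by_contra hcon
  push Not at hcon
  obtain ⟨P, hP⟩ := h.psyl
  have hPN : (P : Subgroup G) ≤ D.N := fun y hy => by
    obtain ⟨x, t, rfl⟩ := (hP y).1 hy
    exact mul_mem (h.μ_mem_N _) (h.u_mem_N _)
  let Q₀ : Sylow p ↥D.N := P.subtype hPN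
  have hn : ((Q₀ : Sylow p ↥D.N) : Subgroup ↥D.N).Normal := ⟨fun y hy n => by
    rw [Sylow.coe_subtype, Subgroup.mem_subgroupOf] at hy ⊢
    obtain ⟨x, t, hxt⟩ := (hP _).1 hy
    have h1 : D.cj (n : G) (1, 0, 0) ∈ D.pt 1 := (hcon n n.2).subset ⟨1, rfl⟩
    have hyC : (y : G) ∈ D.C := hxt ▸ mul_mem (h.μ_mem_C _) (h.u_mem_C _)
    obtain ⟨k, hk⟩ := P.2 ⟨_, hy⟩
    have hk' : (y : G) ^ p ^ k = 1 := congrArg Subtype.val hk
    obtain ⟨x', t', e⟩ := h.pelem (h.conj_C n.2 one_ne_zero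
      (Prod.ext rfl (h.mem_pt_one.1 h1) : D.cj (n : G) (1, 0, 0) = ((D.cj (n : G) (1, 0, 0)).1, 0, 0))
      _ hyC) (mul_mem (mul_mem n.2 (hPN hy)) (inv_mem n.2)) (k := k)
      (by rw [conj_pow, hk', mul_one, mul_inv_cancel])
    exact (hP _).2 ⟨x', t', by simpa using e⟩⟩
  have := Sylow.unique_of_normal Q₀ hn
  obtain ⟨Q, R, hQR⟩ := hnc
  exact hQR (this.eq_default Q |>.trans (this.eq_default R).symm)

omit h

/-- The action of `GL₂` on symmetric matrices as permutations. -/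
noncomputable def saHom : GL (Fin 2) F →* Equiv.Perm (F × F × F) where
  toFun g :=
    { toFun := sa g
      invFun := sa ((g⁻¹ : GL (Fin 2) F) : Matrix (Fin 2) (Fin 2) F)
      left_inv := fun x => by rw [← sa_mul, Units.inv_mul, sa_one]
      right_inv := fun x => by rw [← sa_mul, Units.mul_inv, sa_one] }
  map_one' := Equiv.ext sa_one
  map_mul' g g' := Equiv.ext fun x => sa_mul _ _ x

theorem saHom_apply (g : GL (Fin 2) F) (x : F × F × F) :
    saHom g x = sa (g : Matrix (Fin 2) (Fin 2) F) x := rfl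

variable {n₀ : G} (b : Base D p n₀)
include b

theorem Base.mem_range (g : GL (Fin 2) F) : saHom g ∈ b.toCfg.ρ.range := by
  have h := b.toCfg
  suffices hall : ∀ g : GL (Fin 2) F, g ∈ b.toCfg.ρ.range.comap saHom by exact hall g
  obtain ⟨L, hL⟩ : ∃ L, L = b.toCfg.ρ.range.comap saHom := ⟨_, rfl⟩
  rw [← hL]
  let U : F → GL (Fin 2) F := fun t => ⟨!![1, t; 0, 1], !![1, -t; 0, 1],
    by ext i j; fin_cases i <;> fin_cases j <;> simp,
    by ext i j; fin_cases i <;> fin_cases j <;> simp⟩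
  let W : F → GL (Fin 2) F := fun t => ⟨!![1, 0; t, 1], !![1, 0; -t, 1],
    by ext i j; fin_cases i <;> fin_cases j <;> simp,
    by ext i j; fin_cases i <;> fin_cases j <;> simp⟩
  let T : Fˣ → GL (Fin 2) F := fun s => ⟨!![1, 0; 0, (s : F)], !![1, 0; 0, ((s⁻¹ : Fˣ) : F)],
    by ext i j; fin_cases i <;> fin_cases j <;> simp,
    by ext i j; fin_cases i <;> fin_cases j <;> simp⟩
  have hU : ∀ t, U t ∈ L := fun t => by
    rw [hL]
    refine ⟨⟨D.u t, h.u_mem_N t⟩, Equiv.ext fun ⟨x, y, z⟩ => ?_⟩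
    rw [Cfg.ρ_apply, h.cj_u, saHom_apply]
    simp [sa, U]
  have hW : ∀ t, W t ∈ L := fun t => by
    rw [hL]
    obtain ⟨n, hn, e⟩ := b.exists_lower t
    refine ⟨⟨n, hn⟩, Equiv.ext fun ⟨x, y, z⟩ => ?_⟩
    rw [Cfg.ρ_apply, e, saHom_apply]
    refine Prod.ext ?_ (Prod.ext ?_ ?_) <;> simp [sa, W] <;> ring
  have hT : ∀ s, T s ∈ L := fun s => by
    rw [hL]
    refine ⟨⟨D.d s, h.d_mem_N s⟩, Equiv.ext fun ⟨x, y, z⟩ => ?_⟩
    rw [Cfg.ρ_apply, h.cj_d, saHom_apply]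
    simp [sa, T]
  have hgen : ∀ g : GL (Fin 2) F, (g : Matrix (Fin 2) (Fin 2) F) 1 0 ≠ 0 → g ∈ L := by
    intro g hc
    have hdet : (g : Matrix (Fin 2) (Fin 2) F).det ≠ 0 := (Matrix.isUnit_iff_isUnit_det _).1 g.isUnit |>.ne_zero
    rw [Matrix.det_fin_two] at hdet
    set a := (g : Matrix (Fin 2) (Fin 2) F) 0 0 with ha
    set b' := (g : Matrix (Fin 2) (Fin 2) F) 0 1 with hb
    set c := (g : Matrix (Fin 2) (Fin 2) F) 1 0 with hc'
    set d := (g : Matrix (Fin 2) (Fin 2) F) 1 1 with hd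
    obtain ⟨Δ, hΔ⟩ : ∃ Δ, Δ = a * d - b' * c := ⟨_, rfl⟩
    rw [← hΔ] at hdet
    have e : g = U ((a - 1) / c) * W c * U ((d / Δ - 1) / c) *
        T (Units.mk0 Δ hdet) := by
      refine Units.ext (Matrix.ext fun i j => ?_)
      fin_cases i <;> fin_cases j <;>
        simp [U, W, T, Matrix.mul_apply, Fin.sum_univ_two, ← ha, ← hb, ← hc', ← hd] <;>
        field_simp <;> first | ring1 | linear_combination hΔ | linear_combination (-1 : F) * hΔ
    rw [e]
    exact mul_mem (mul_mem (mul_mem (hU _) (hW _)) (hU _)) (hT _)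
  intro g
  by_cases hc : (g : Matrix (Fin 2) (Fin 2) F) 1 0 = 0
  · have ha : (g : Matrix (Fin 2) (Fin 2) F) 0 0 ≠ 0 := fun e => by
      have hdet : (g : Matrix (Fin 2) (Fin 2) F).det ≠ 0 :=
        (Matrix.isUnit_iff_isUnit_det _).1 g.isUnit |>.ne_zero
      rw [Matrix.det_fin_two, e, hc] at hdet
      simp at hdet
    have h1 : W 1 * g ∈ L := hgen _ (by
      simpa [W, Matrix.mul_apply, Fin.sum_univ_two, hc] using ha)
    simpa using mul_mem (inv_mem (hW 1)) h1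
  · exact hgen g hc

theorem Base.ρ_mem (n : ↥D.N) : b.toCfg.ρ n ∈ (saHom (F := F)).range := by
  have h := b.toCfg
  have key : ∀ n : ↥D.N, D.pt (n : G) = D.pt 1 → b.toCfg.ρ n ∈ (saHom (F := F)).range := by
    intro n e1
    obtain ⟨t, ht⟩ : ∃ t, D.pt ((n : G) * n₀) = D.pt (D.u t * n₀) :=
      (b.cover _ (mul_mem n.2 b.mem)).resolve_left fun e => b.second_ne (by
        calc D.pt n₀ = D.cj ((n : G))⁻¹ '' D.pt ((n : G) * n₀) := by
              rw [h.image_pt (mul_mem n.2 b.mem), inv_mul_cancel_left]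
          _ = D.cj ((n : G))⁻¹ '' D.pt (n : G) := by rw [e, e1]
          _ = _ := by rw [h.image_pt n.2, inv_mul_cancel])
    have hmN : D.u (-t) * n ∈ D.N := mul_mem (h.u_mem_N _) n.2
    have hm1 : D.pt (D.u (-t) * n) = D.pt 1 := by
      rw [h.pt_mul n.2, e1, h.image_pt (one_mem _), mul_one, b.u_pt]
    have hm2 : D.cj (D.u (-t) * n) '' D.pt n₀ = D.pt n₀ := by
      rw [h.image_pt b.mem, mul_assoc, h.pt_mul (mul_mem n.2 b.mem), ht,
        h.image_pt (mul_mem (h.u_mem_N t) b.mem), h.u_neg, inv_mul_cancel_left]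
    obtain ⟨r, k, hrk⟩ := b.diag hmN hm1 hm2
    let g : GL (Fin 2) F := ⟨!![(r : F), 0; 0, (k : F)], !![((r⁻¹ : Fˣ) : F), 0; 0, ((k⁻¹ : Fˣ) : F)],
      by ext i j; fin_cases i <;> fin_cases j <;> simp,
      by ext i j; fin_cases i <;> fin_cases j <;> simp⟩
    have h1 : b.toCfg.ρ ⟨_, hmN⟩ = saHom g := Equiv.ext fun ⟨x, y, z⟩ => by
      rw [Cfg.ρ_apply, hrk, saHom_apply]; simp [sa, g]
    have h2 : b.toCfg.ρ ⟨D.u t, h.u_mem_N t⟩ ∈ (saHom (F := F)).range := by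
      refine ⟨⟨!![1, t; 0, 1], !![1, -t; 0, 1],
        by ext i j; fin_cases i <;> fin_cases j <;> simp,
        by ext i j; fin_cases i <;> fin_cases j <;> simp⟩, Equiv.ext fun ⟨x, y, z⟩ => ?_⟩
      rw [Cfg.ρ_apply, h.cj_u, saHom_apply]; simp [sa]
    have e : n = ⟨D.u t, h.u_mem_N t⟩ * ⟨_, hmN⟩ := Subtype.ext (by
      show (n : G) = D.u t * (D.u (-t) * n)
      rw [h.u_neg, mul_inv_cancel_left])
    rw [e, map_mul]
    exact mul_mem h2 ⟨g, h1.symm⟩
  rcases b.cover n n.2 with e | ⟨t, e⟩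
  · exact key n e
  obtain ⟨l, hl, hlf⟩ := b.exists_lower 1
  have hlr : b.toCfg.ρ ⟨l, hl⟩ ∈ (saHom (F := F)).range := by
    refine ⟨⟨!![1, 0; 1, 1], !![1, 0; -1, 1],
      by ext i j; fin_cases i <;> fin_cases j <;> simp,
      by ext i j; fin_cases i <;> fin_cases j <;> simp⟩, Equiv.ext fun ⟨x, y, z⟩ => ?_⟩
    rw [Cfg.ρ_apply, hlf, saHom_apply]
    refine Prod.ext ?_ (Prod.ext ?_ ?_) <;> simp [sa] <;> ring
  obtain ⟨s, hs⟩ : ∃ s, D.pt l = D.pt (D.u s * n₀) := (b.cover _ hl).resolve_left fun e' => by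
    have h1 : D.cj l (1, 0, 0) ∈ D.pt 1 := e'.subset ⟨1, rfl⟩
    rw [h.mem_pt_one, hlf] at h1
    simp at h1
  have hur : ∀ t, b.toCfg.ρ ⟨D.u t, h.u_mem_N t⟩ ∈ (saHom (F := F)).range := fun t => key _ (b.u_pt t)
  obtain ⟨m, hm⟩ : ∃ m : ↥D.N, m = ⟨D.u t, h.u_mem_N t⟩ * ⟨D.u (-s), h.u_mem_N _⟩ * ⟨l, hl⟩ :=
    ⟨_, rfl⟩
  have hmr : b.toCfg.ρ m ∈ (saHom (F := F)).range := by
    rw [hm, map_mul, map_mul]
    exact mul_mem (mul_mem (hur t) (hur (-s))) hlr
  have hmp : D.pt (m : G) = D.pt (n : G) := by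
    rw [hm]
    simp only [Subgroup.coe_mul]
    rw [h.pt_mul hl, hs, h.image_pt (mul_mem (h.u_mem_N s) b.mem), e, h.u_neg]
    congr 1
    group
  have hmn : D.pt ((m⁻¹ * n : ↥D.N) : G) = D.pt 1 := by
    simp only [Subgroup.coe_mul, Subgroup.coe_inv]
    rw [h.pt_mul n.2, ← hmp, h.image_pt m.2, inv_mul_cancel]
  have := mul_mem hmr (key _ hmn)
  rwa [← map_mul, mul_inv_cancel_left] at this

theorem Base.range_eq : b.toCfg.ρ.range = (saHom (F := F)).range :=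
  le_antisymm (by rintro _ ⟨n, rfl⟩; exact b.ρ_mem n) (by rintro _ ⟨g, rfl⟩; exact b.mem_range g)

theorem Base.ker_eq : b.toCfg.ρ.ker = D.M.subgroupOf D.N := by
  have h := b.toCfg
  ext n
  rw [MonoidHom.mem_ker, Subgroup.mem_subgroupOf]
  constructor
  · intro e
    have e' : ∀ x, D.cj (n : G) x = x := fun x => DFunLike.congr_fun e x
    obtain ⟨x, t, s, hn⟩ := h.normC _ (h.mem_C_of_fix n.2 one_ne_zero (e' _)) n.2
    have h1 := e' (0, 1, 0)
    rw [hn, h.cj_mud] at h1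
    simp only [mul_one, mul_zero, add_zero, Prod.mk.injEq] at h1
    have hs : s = 1 := Units.ext h1.2.1
    subst hs
    have h2 := e' (0, 0, 1)
    rw [hn, h.cj_mud] at h2
    simp only [Units.val_one, mul_one, mul_zero, one_mul, zero_add, Prod.mk.injEq] at h2
    rw [hn, h2.2.1, h.u_zero, h.d_one, mul_one, mul_one]
    exact h.mem_M.2 ⟨x, rfl⟩
  · intro hn
    obtain ⟨x, e⟩ := h.mem_M.1 hn
    exact Equiv.ext fun y => by rw [Cfg.ρ_apply, e, h.cj_μ]; rfl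

theorem Base.saHom_ker (g : GL (Fin 2) F) :
    g ∈ (saHom (F := F)).ker ↔ ∃ r : Fˣ, r * r = 1 ∧ g = Matrix.GeneralLinearGroup.scalar (Fin 2) r := by
  have h2 := b.toCfg.two_ne
  rw [MonoidHom.mem_ker]
  constructor
  · intro e
    have e' : ∀ x, sa (g : Matrix (Fin 2) (Fin 2) F) x = x := fun x => DFunLike.congr_fun e x
    have h100 := e' (1, 0, 0)
    have h001 := e' (0, 0, 1)
    have h010 := e' (0, 1, 0)
    simp [sa] at h100 h001 h010
    obtain ⟨ha, -, hc⟩ := h100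
    obtain ⟨hb, -, hd⟩ := h001
    rw [hc, mul_zero, add_zero] at h010
    have ha0 : (g : Matrix (Fin 2) (Fin 2) F) 0 0 ≠ 0 := fun e0 => by simp [e0] at ha
    have hda : (g : Matrix (Fin 2) (Fin 2) F) 1 1 = (g : Matrix (Fin 2) (Fin 2) F) 0 0 :=
      mul_left_cancel₀ ha0 (h010.2.1.trans ha.symm)
    refine ⟨Units.mk0 _ ha0, Units.ext ha, Units.ext (Matrix.ext fun i j => ?_)⟩
    fin_cases i <;> fin_cases j <;> simp [hb, hc, hda, Matrix.GeneralLinearGroup.coe_scalar]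
  · rintro ⟨r, hr, rfl⟩
    have hr' : (r : F) * r = 1 := by rw [← Units.val_mul, hr, Units.val_one]
    refine Equiv.ext fun ⟨x, y, z⟩ => ?_
    rw [saHom_apply]
    refine Prod.ext ?_ (Prod.ext ?_ ?_) <;>
      simp [sa, Matrix.GeneralLinearGroup.coe_scalar, hr']

theorem Base.exists_iso : Nonempty (↥b.toCfg.ρ.range ≃*
    Matrix.ProjGenLinGroup (Fin 2) F × Multiplicative (ZMod ((Nat.card F - 1) / 2))) := by
  have h := b.toCfg
  have := Fintype.ofFinite F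
  obtain ⟨m, hm⟩ : ∃ m, Nat.card F = 4 * m + 3 := ⟨Nat.card F / 4, by have := h.mod4; omega⟩
  have hsq := h.card_sq
  let S := (powMonoidHom 2 : Fˣ →* Fˣ).range
  have hS : Nat.card S = 2 * m + 1 := by
    show Nat.card (powMonoidHom 2 : Fˣ →* Fˣ).range = _
    omega
  have hcyc : IsCyclic S := inferInstance
  let f : GL (Fin 2) F →* Matrix.ProjGenLinGroup (Fin 2) F × S :=
    Matrix.ProjGenLinGroup.mk.prod
      (((powMonoidHom 2 : Fˣ →* Fˣ).rangeRestrict.comp (powMonoidHom (m + 1))).comp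
        Matrix.GeneralLinearGroup.det)
  have hpow : ∀ x : Fˣ, x ^ (4 * m + 2) = 1 := fun x => by
    rw [show 4 * m + 2 = Nat.card Fˣ by rw [Nat.card_units]; omega, pow_card_eq_one']
  have hker : f.ker = (saHom (F := F)).ker := by
    ext g
    rw [b.saHom_ker, MonoidHom.mem_ker]
    constructor
    · intro e
      have e1 : Matrix.ProjGenLinGroup.mk g = 1 := congrArg Prod.fst e
      rw [Matrix.ProjGenLinGroup.mk_eq_one, Matrix.GeneralLinearGroup.center_eq_range_scalar] at e1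
      obtain ⟨r, rfl⟩ := e1
      have e2 : ((Matrix.GeneralLinearGroup.scalar (Fin 2) r).det ^ (m + 1)) ^ 2 = 1 :=
        congrArg Subtype.val (congrArg Prod.snd e)
      refine ⟨r, ?_, rfl⟩
      have hd : (Matrix.GeneralLinearGroup.scalar (Fin 2) r).det = r * r := Units.ext (by
        simp [Matrix.det_fin_two, Matrix.GeneralLinearGroup.coe_scalar, sq])
      rw [hd] at e2
      have h4 : r ^ (4 * m + 2 + 2) = 1 := by rw [← e2, ← pow_two, ← pow_mul, ← pow_mul]; congr 1; ring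
      rw [pow_add, hpow, one_mul, sq] at h4
      exact h4
    · rintro ⟨r, hr, rfl⟩
      have hd : (Matrix.GeneralLinearGroup.scalar (Fin 2) r).det = r * r := Units.ext (by
        simp [Matrix.det_fin_two, Matrix.GeneralLinearGroup.coe_scalar, sq])
      refine Prod.ext (Matrix.ProjGenLinGroup.mk_scalar r) (Subtype.ext ?_)
      show ((Matrix.GeneralLinearGroup.scalar (Fin 2) r).det ^ (m + 1)) ^ 2 = 1
      rw [hd, hr, one_pow, one_pow]
  have hsurj : Function.Surjective f := by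
    rintro ⟨x, y, z, hz⟩
    obtain ⟨g, rfl⟩ := Matrix.ProjGenLinGroup.mk_surjective x
    obtain ⟨r, hr⟩ : ∃ r, r = z * ((g.det ^ (m + 1)))⁻¹ := ⟨_, rfl⟩
    refine ⟨g * Matrix.GeneralLinearGroup.scalar (Fin 2) r, Prod.ext ?_ (Subtype.ext ?_)⟩
    · show Matrix.ProjGenLinGroup.mk (g * _) = _
      rw [map_mul, Matrix.ProjGenLinGroup.mk_scalar, mul_one]
    · show ((g * Matrix.GeneralLinearGroup.scalar (Fin 2) r).det ^ (m + 1)) ^ 2 = y
      have hd : (Matrix.GeneralLinearGroup.scalar (Fin 2) r).det = r * r := Units.ext (by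
        simp [Matrix.det_fin_two, Matrix.GeneralLinearGroup.coe_scalar, sq])
      rw [map_mul, hd, ← hz]
      show ((g.det * (r * r)) ^ (m + 1)) ^ 2 = z ^ 2
      have h4 : (r * r) ^ (m + 1 + (m + 1)) = r * r := by
        rw [← pow_two, ← pow_mul, show 2 * (m + 1 + (m + 1)) = 4 * m + 2 + 2 by ring, pow_add, hpow, one_mul]
      rw [mul_pow, mul_pow, ← pow_mul (r * r), show (m + 1) * 2 = m + 1 + (m + 1) by ring, h4, hr,
        ← pow_two (z * _), ← mul_pow, mul_left_comm (g.det ^ (m + 1)) z, mul_inv_cancel, mul_one]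
  have hn : (Nat.card F - 1) / 2 = 2 * m + 1 := by omega
  let e1 : ↥b.toCfg.ρ.range ≃* (GL (Fin 2) F ⧸ (saHom (F := F)).ker) :=
    (MulEquiv.subgroupCongr b.range_eq).trans (QuotientGroup.quotientKerEquivRange saHom).symm
  let e2 : (GL (Fin 2) F ⧸ (saHom (F := F)).ker) ≃* Matrix.ProjGenLinGroup (Fin 2) F × S :=
    (QuotientGroup.quotientMulEquivOfEq hker.symm).trans (QuotientGroup.quotientKerEquivOfSurjective f hsurj)
  let e3 : S ≃* Multiplicative (ZMod ((Nat.card F - 1) / 2)) :=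
    mulEquivOfCyclicCardEq (by
      rw [Nat.card_congr Multiplicative.toAdd, Nat.card_zmod, hn, hS])
  exact ⟨e1.trans (e2.trans (MulEquiv.prodCongr (MulEquiv.refl _) e3))⟩

/-- The complement. -/
theorem Base.exists_complement : ∃ J : Subgroup G, J ≤ D.N ∧ D.M ⊔ J = D.N ∧ D.M ⊓ J = ⊥ ∧
    Nonempty (↥J ≃* ↥b.toCfg.ρ.range) := by
  have h := b.toCfg
  have hp : Fact p.Prime := ⟨h.prime⟩
  have := h.charP
  obtain ⟨P, hP⟩ := h.psyl
  have hPN : (P : Subgroup G) ≤ D.N := fun y hy => by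
    obtain ⟨x, t, rfl⟩ := (hP y).1 hy
    exact mul_mem (h.μ_mem_N _) (h.u_mem_N _)
  have hMN : D.M ≤ D.N := Subgroup.le_normalizer
  let K : Subgroup ↥D.N := D.M.subgroupOf D.N
  have hKn : K.Normal := Subgroup.normal_in_normalizer
  have hKc : IsMulCommutative K := ⟨⟨fun x y => Subtype.ext (Subtype.ext (by
    obtain ⟨v, hv⟩ := h.mem_M.1 (Subgroup.mem_subgroupOf.1 x.2)
    obtain ⟨w, hw⟩ := h.mem_M.1 (Subgroup.mem_subgroupOf.1 y.2)
    show ((x : ↥D.N) : G) * ((y : ↥D.N) : G) = ((y : ↥D.N) : G) * ((x : ↥D.N) : G)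
    rw [hv, hw, ← h.μ_add, ← h.μ_add, add_comm]))⟩⟩
  let U : Sylow p ↥D.N := P.subtype hPN
  let A : Subgroup ↥D.N :=
    { carrier := {g | ∃ t, (g : G) = D.u t}
      one_mem' := ⟨0, h.u_zero.symm⟩
      mul_mem' := by
        rintro x y ⟨s, hs⟩ ⟨t, ht⟩
        exact ⟨s + t, by rw [Subgroup.coe_mul, hs, ht, h.u_add]⟩
      inv_mem' := by
        rintro x ⟨s, hs⟩
        exact ⟨-s, by rw [Subgroup.coe_inv, hs, h.u_neg]⟩ }
  have hAK : A ⊓ K = ⊥ := by
    rw [Subgroup.eq_bot_iff_forall]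
    rintro x ⟨⟨t, ht⟩, hx⟩
    obtain ⟨v, hv⟩ := h.mem_M.1 (Subgroup.mem_subgroupOf.1 hx)
    have e : D.μ (-v) * D.u t * D.d 1 = 1 := by
      rw [h.d_one, mul_one, ← ht, hv, ← h.μ_add, neg_add_cancel, h.μ_zero]
    refine Subtype.ext ?_
    rw [ht, (h.eq_one _ _ _ e).2.1, h.u_zero]; rfl
  have hKA : K ⊔ A = (U : Subgroup ↥D.N) := by
    refine le_antisymm (sup_le (fun x hx => ?_) ?_) (fun x hx => ?_)
    · rw [Sylow.coe_subtype, Subgroup.mem_subgroupOf, hP]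
      obtain ⟨v, hv⟩ := h.mem_M.1 (Subgroup.mem_subgroupOf.1 hx)
      exact ⟨v, 0, by rw [hv, h.u_zero, mul_one]⟩
    · rintro x ⟨t, ht⟩
      rw [Sylow.coe_subtype, Subgroup.mem_subgroupOf, hP]
      exact ⟨0, t, by rw [ht, h.μ_zero, one_mul]⟩
    · rw [Sylow.coe_subtype, Subgroup.mem_subgroupOf, hP] at hx
      obtain ⟨v, t, e⟩ := hx
      have : x = ⟨D.μ v, h.μ_mem_N v⟩ * ⟨D.u t, h.u_mem_N t⟩ := Subtype.ext e
      rw [this]
      exact mul_mem (Subgroup.mem_sup_left (Subgroup.mem_subgroupOf.2 (h.mem_M.2 ⟨v, rfl⟩)))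
        (Subgroup.mem_sup_right ⟨t, rfl⟩)
  have hKU : K ≤ (U : Subgroup ↥D.N) := hKA ▸ le_sup_left
  have hcop : (Nat.card K).Coprime (U : Subgroup ↥D.N).index := by
    obtain ⟨k, hk⟩ := IsPGroup.iff_card.1 (U.2.to_le hKU)
    rw [hk]
    exact Nat.Coprime.pow_left _ ((Nat.Prime.coprime_iff_not_dvd h.prime).2 U.not_dvd_index)
  obtain ⟨H, hH⟩ := CfsgLib.Solvable.gaschutz_exists hKU hcop hAK hKA
  refine ⟨H.map D.N.subtype, Subgroup.map_subtype_le H, ?_, ?_, ?_⟩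
  · have e := congrArg (Subgroup.map D.N.subtype) hH.sup_eq_top
    rwa [Subgroup.map_sup, Subgroup.map_subgroupOf_eq_of_le hMN, ← MonoidHom.range_eq_map,
      Subgroup.range_subtype] at e
  · rw [← Subgroup.map_subgroupOf_eq_of_le hMN, ← Subgroup.map_inf _ _ _ D.N.subtype_injective,
      hH.disjoint.eq_bot, Subgroup.map_bot]
  · refine ⟨(H.equivMapOfInjective _ D.N.subtype_injective).symm.trans
      (MulEquiv.ofBijective ((h.ρ.rangeRestrict).comp H.subtype) ⟨?_, ?_⟩)⟩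
    · rw [← MonoidHom.ker_eq_bot_iff, Subgroup.eq_bot_iff_forall]
      intro x hx
      have h1 : (x : ↥D.N) ∈ K ⊓ H := ⟨by
        show (x : ↥D.N) ∈ D.M.subgroupOf D.N
        rw [← b.ker_eq, MonoidHom.mem_ker]
        exact congrArg Subtype.val hx, x.2⟩
      rw [hH.disjoint.eq_bot, Subgroup.mem_bot] at h1
      exact Subtype.ext h1
    · rintro ⟨_, n, rfl⟩
      obtain ⟨k, hk, x, hx, rfl⟩ := CfsgLib.Solvable.exists_mul_of_mem_sup
        (hH.sup_eq_top ▸ Subgroup.mem_top n : n ∈ K ⊔ H)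
      refine ⟨⟨x, hx⟩, Subtype.ext ?_⟩
      show h.ρ x = h.ρ (k * x)
      rw [map_mul, show h.ρ k = 1 from MonoidHom.mem_ker.1 (by rw [b.ker_eq]; exact hk), one_mul]

end CfsgLib.Recog.SpFourP
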