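import Cfsg.Agent.Lib.Recog.SpFourP.One

/-!
The normaliser acts on `M` as `GL₂` acts on symmetric matrices.
-/

set_option autoImplicit false
set_option linter.unusedSectionVars false

namespace CfsgLib.Recog.SpFourP

open Subgroup

variable {G : Type*} [Group G] [Finite G] {F : Type*} [Field F] [Finite F]

/-- The action of a `2 × 2` matrix on symmetric matrices `[[a, b], [b, c]]`. -/
def sa (g : Matrix (Fin 2) (Fin 2) F) (x : F × F × F) : F × F × F :=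
  (g 0 0 * g 0 0 * x.1 + 2 * g 0 0 * g 0 1 * x.2.1 + g 0 1 * g 0 1 * x.2.2,
    g 0 0 * g 1 0 * x.1 + (g 0 0 * g 1 1 + g 0 1 * g 1 0) * x.2.1 + g 0 1 * g 1 1 * x.2.2,
    g 1 0 * g 1 0 * x.1 + 2 * g 1 0 * g 1 1 * x.2.1 + g 1 1 * g 1 1 * x.2.2)

theorem sa_mul (g h : Matrix (Fin 2) (Fin 2) F) (x : F × F × F) : sa (g * h) x = sa g (sa h x) := by
  refine Prod.ext ?_ (Prod.ext ?_ ?_) <;> simp [sa, Matrix.mul_apply, Fin.sum_univ_two] <;> ring

theorem sa_one (x : F × F × F) : sa (1 : Matrix (Fin 2) (Fin 2) F) x = x := by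
  refine Prod.ext ?_ (Prod.ext ?_ ?_) <;> simp [sa]

/-- A finite field of order three modulo four has no automorphism of order two. -/
theorem ringHom_eq_id (hq : Nat.card F % 4 = 3) (θ : F →+* F) (h2 : ∀ x, θ (θ x) = x) (x : F) :
    θ x = x := by
  classical
  have := Fintype.ofFinite F
  obtain ⟨p, hchar⟩ := CharP.exists F
  have hp : Fact p.Prime := ⟨CharP.char_is_prime F p⟩
  letI : Algebra (ZMod p) F := ZMod.algebra F p
  let e : F ≃ₐ[ZMod p] F :=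
    { toFun := θ, invFun := θ, left_inv := h2, right_inv := h2
      map_mul' := map_mul θ, map_add' := map_add θ
      commutes' := fun r => by
        show θ (algebraMap (ZMod p) F r) = _
        exact DFunLike.congr_fun (Subsingleton.elim (θ.comp (algebraMap (ZMod p) F)) (algebraMap (ZMod p) F)) r }
  have hcard : Nat.card F = p ^ Module.finrank (ZMod p) F := by
    rw [Module.natCard_eq_pow_finrank (K := ZMod p), Nat.card_zmod]
  have hodd : Odd (Module.finrank (ZMod p) F) := by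
    by_contra hcon
    obtain ⟨k, hk⟩ := Nat.not_odd_iff_even.1 hcon
    rw [hk, ← two_mul, pow_mul] at hcard
    have : p ^ 2 % 4 = 0 ∨ p ^ 2 % 4 = 1 := by
      rcases Nat.even_or_odd p with ⟨l, rfl⟩ | ⟨l, rfl⟩
      · left
        rw [← two_mul, mul_pow]
        exact Nat.mul_mod_right 4 _
      · right
        rw [show (2 * l + 1) ^ 2 = 4 * (l * l + l) + 1 by ring, Nat.mul_add_mod]
    rw [hcard, Nat.pow_mod] at hq
    rcases this with e | e <;> rw [e] at hq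
    · rcases k with _ | k <;> simp at hq
    · simp at hq
  have he2 : e ^ 2 = 1 := AlgEquiv.ext fun y => by rw [sq]; exact h2 y
  have hgal : Nat.card (F ≃ₐ[ZMod p] F) = Module.finrank (ZMod p) F :=
    IsGalois.card_aut_eq_finrank (ZMod p) F
  have he : e = 1 := by
    rw [← orderOf_eq_one_iff]
    have h3 : orderOf e ∣ 2 := orderOf_dvd_of_pow_eq_one he2
    have h4 : orderOf e ∣ Module.finrank (ZMod p) F := hgal ▸ orderOf_dvd_natCard e
    rcases (Nat.dvd_prime Nat.prime_two).1 h3 with e' | e'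
    · exact e'
    · rw [e'] at h4
      exact absurd (even_iff_two_dvd.2 h4) (Nat.not_even_iff_odd.2 hodd)
  exact DFunLike.congr_fun he x

/-- The coordinates adapted to the second point. -/
structure Base (D : Data G F) (p : ℕ) (n₀ : G) : Prop extends Cfg D p where
  mem : n₀ ∈ D.N
  second : ∀ c : F, ((0 : F), (0 : F), c) ∈ D.pt n₀
  cover : ∀ n ∈ D.N, D.pt n = D.pt 1 ∨ ∃ t, D.pt n = D.pt (D.u t * n₀)

variable {D : Data G F} {p : ℕ} {n₀ : G} (b : Base D p n₀)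
include b

theorem Base.mem_second {x : F × F × F} : x ∈ D.pt n₀ ↔ x.1 = 0 ∧ x.2.1 = 0 := by
  have h := b.toCfg
  rw [h.graph_eq b.mem (φ := fun _ => 0) b.second]
  constructor
  · rintro ⟨c, rfl⟩; exact ⟨rfl, rfl⟩
  · intro e; exact ⟨x.2.2, Prod.ext e.1.symm (Prod.ext e.2.symm rfl)⟩

theorem Base.second_ne : D.pt n₀ ≠ D.pt 1 := b.toCfg.graph_ne (φ := fun _ => 0) b.second

/-- An element mapping two fixed points to the first two points commutes with the involution. -/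
theorem Base.comm_ι {g : G} (hg : g ∈ D.N)
    (h1 : ∀ a, D.cj D.ι (D.cj g⁻¹ (a, 0, 0)) = D.cj g⁻¹ (a, 0, 0))
    (h2 : D.cj D.ι (D.cj g⁻¹ (0, 0, 1)) = D.cj g⁻¹ (0, 0, 1)) :
    ∀ x, D.cj g (D.cj D.ι x) = D.cj D.ι (D.cj g x) := by
  have h := b.toCfg
  have hn : g * D.ι * g⁻¹ ∈ D.N := mul_mem (mul_mem hg h.ι_mem) (inv_mem hg)
  have e : ∀ x, D.cj (g * D.ι * g⁻¹) x = D.cj g (D.cj D.ι (D.cj g⁻¹ x)) := fun x => by
    rw [h.cj_mul (inv_mem hg), h.cj_mul h.ι_mem]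
  obtain ⟨t, s, hs⟩ := h.shape (h.mem_C_of_fix hn one_ne_zero (by rw [e, h1, h.cj_cj_inv hg])) hn
  have h3 := hs 0 0 1
  rw [e, h2, h.cj_cj_inv hg] at h3
  simp only [Prod.mk.injEq, mul_zero, mul_one, zero_add] at h3
  obtain ⟨-, ht, hss⟩ := h3
  rw [← hss, mul_one] at ht
  subst ht
  rcases mul_self_eq_one_iff.1 hss.symm with hs1 | hs1
  · exfalso
    have h4 := hs 0 1 0
    simp [hs1] at h4
    have h5 : D.cj g (D.cj D.ι (D.cj g⁻¹ (0, 1, 0))) = (0, 1, 0) := (e _).symm.trans h4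
    have hall : ∀ x, D.cj D.ι x = x := fun x => by
      obtain ⟨a, b, c⟩ := D.cj g x
      have h6 : D.cj (g * D.ι * g⁻¹) (D.cj g x) = D.cj g x := by
        generalize D.cj g x = y
        obtain ⟨a, b, c⟩ := y
        rw [hs, hs1]; simp
      rw [e, h.cj_inv_cj hg] at h6
      exact h.cj_inj hg h6
    have h7 := congrArg (fun x => x.2.1) (hall (0, 1, 0))
    simp only [h.cj_ι] at h7
    exact h.two_ne (by linear_combination -h7)
  · intro x
    have h6 : D.cj (g * D.ι * g⁻¹) (D.cj g x) = D.cj D.ι (D.cj g x) := by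
      generalize D.cj g x = y
      obtain ⟨a, b, c⟩ := y
      rw [hs, hs1, h.cj_ι]; simp
    rwa [e, h.cj_inv_cj hg] at h6

theorem Base.middle {g : G} (hg : g ∈ D.N) (hc : ∀ x, D.cj g (D.cj D.ι x) = D.cj D.ι (D.cj g x))
    (y : F) : D.cj g (0, y, 0) = (0, (D.cj g (0, y, 0)).2.1, 0) := by
  have h := b.toCfg
  have h1 := hc (0, y, 0)
  rw [h.cj_ι, show ((0 : F), -y, (0 : F)) = -((0 : F), y, (0 : F)) by simp] at h1
  have h2 : D.cj g (-((0 : F), y, (0 : F))) = -D.cj g (0, y, 0) := by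
    refine eq_neg_of_add_eq_zero_left ?_
    rw [← h.cj_add hg, neg_add_cancel, h.cj_zero hg]
  rw [h2] at h1
  generalize D.cj g (0, y, 0) = v at h1 ⊢
  obtain ⟨a, m, c⟩ := v
  rw [h.cj_ι, Prod.neg_mk, Prod.neg_mk, Prod.mk.injEq, Prod.mk.injEq] at h1
  have ha : (2 : F) * a = 0 := by linear_combination -h1.1
  have hcc : (2 : F) * c = 0 := by linear_combination -h1.2.2
  rw [(mul_eq_zero.1 ha).resolve_left h.two_ne, (mul_eq_zero.1 hcc).resolve_left h.two_ne]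

theorem Base.split {g : G} (hg : g ∈ D.N) (x y z : F) :
    D.cj g (x, y, z) = D.cj g (x, 0, 0) + D.cj g (0, y, 0) + D.cj g (0, 0, z) := by
  rw [← b.toCfg.cj_add hg, ← b.toCfg.cj_add hg]
  simp

theorem Base.sq_mul {y z : Fˣ} (hy : y ∉ (powMonoidHom 2 : Fˣ →* Fˣ).range)
    (hz : z ∉ (powMonoidHom 2 : Fˣ →* Fˣ).range) : z * y ∈ (powMonoidHom 2 : Fˣ →* Fˣ).range := by
  have h := b.toCfg
  have hi : (powMonoidHom 2 : Fˣ →* Fˣ).range.index = 2 := by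
    have h1 := (powMonoidHom 2 : Fˣ →* Fˣ).range.card_mul_index
    rw [Nat.card_units] at h1
    have h2 := h.card_sq
    have h3 : 0 < Nat.card (powMonoidHom 2 : Fˣ →* Fˣ).range := Nat.card_pos
    have h4 : Nat.card (powMonoidHom 2 : Fˣ →* Fˣ).range * (powMonoidHom 2 : Fˣ →* Fˣ).range.index =
        Nat.card (powMonoidHom 2 : Fˣ →* Fˣ).range * 2 := by omega
    exact Nat.eq_of_mul_eq_mul_left h3 h4
  exact (Subgroup.mul_mem_iff_of_index_two hi).2 (iff_of_false hz hy)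

/-- The stabiliser of the two points scales the second one by squares. -/
theorem Base.scale {g : G} (hg : g ∈ D.N) (e : D.cj g '' D.pt n₀ = D.pt n₀) :
    ∃ k : Fˣ, D.cj g (0, 0, 1) = (0, 0, ↑(k * k)) := by
  have h := b.toCfg
  have hv : D.cj g (0, 0, 1) ∈ D.pt n₀ := e.subset ⟨_, b.second 1, rfl⟩
  obtain ⟨v, hv'⟩ : ∃ v, D.cj g (0, 0, 1) = (0, 0, v) :=
    ⟨_, Prod.ext (b.mem_second.1 hv).1 (Prod.ext (b.mem_second.1 hv).2 rfl)⟩
  have hv0 : v ≠ 0 := by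
    rintro rfl
    have := h.cj_inj hg (hv'.trans (h.cj_zero hg).symm)
    simp [Prod.mk_eq_zero] at this
  by_cases hsq : Units.mk0 v hv0 ∈ (powMonoidHom 2 : Fˣ →* Fˣ).range
  · obtain ⟨k, hk⟩ := hsq
    refine ⟨k, ?_⟩
    rw [hv', ← sq, ← powMonoidHom_apply, hk, Units.val_mk0]
  exfalso
  have htr : ∀ z : Fˣ, ∃ m ∈ D.N, D.cj m (0, 0, 1) = (0, 0, (z : F)) := by
    intro z
    by_cases hz : z ∈ (powMonoidHom 2 : Fˣ →* Fˣ).range
    · obtain ⟨k, rfl⟩ := hz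
      exact ⟨D.d k, h.d_mem_N k, by rw [h.cj_d]; simp [sq]⟩
    · have hz' : z * (Units.mk0 v hv0)⁻¹ ∈ (powMonoidHom 2 : Fˣ →* Fˣ).range :=
        b.sq_mul (fun hh => hsq (inv_mem_iff.1 hh)) hz
      obtain ⟨k, hk⟩ := hz'
      refine ⟨D.d k * g, mul_mem (h.d_mem_N k) hg, ?_⟩
      rw [h.cj_mul hg, hv', h.cj_d]
      have : z = k ^ 2 * Units.mk0 v hv0 := by
        rw [← powMonoidHom_apply, hk, inv_mul_cancel_right]
      rw [this]
      simp [sq, mul_assoc]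
  refine h.fus fun y hy => ?_
  have hd : ∀ x : F, x ≠ 0 → ∃ z : Fˣ, D.cj n₀ (x, 0, 0) = (0, 0, (z : F)) := by
    intro x hx
    have hm : D.cj n₀ (x, 0, 0) ∈ D.pt n₀ := ⟨x, rfl⟩
    have hne : (D.cj n₀ (x, 0, 0)).2.2 ≠ 0 := h.third_ne_zero b.mem b.second_ne hm fun e =>
      hx (congrArg Prod.fst (h.cj_inj b.mem (e.trans (h.cj_zero b.mem).symm) :
        (x, 0, 0) = (0 : F × F × F)))
    exact ⟨Units.mk0 _ hne, Prod.ext (b.mem_second.1 hm).1 (Prod.ext (b.mem_second.1 hm).2 rfl)⟩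
  obtain ⟨z₁, hz₁⟩ := hd 1 one_ne_zero
  obtain ⟨z₂, hz₂⟩ := hd y hy
  obtain ⟨m₁, hm₁, e₁⟩ := htr z₁
  obtain ⟨m₂, hm₂, e₂⟩ := htr z₂
  refine ⟨n₀⁻¹ * (m₂ * m₁⁻¹) * n₀, ?_⟩
  have hm : m₂ * m₁⁻¹ ∈ D.N := mul_mem hm₂ (inv_mem hm₁)
  rw [← h.μ_cj (mul_mem (mul_mem (inv_mem b.mem) hm) b.mem)]
  congr 1
  rw [h.cj_mul b.mem, h.cj_mul hm, hz₁, h.cj_mul (inv_mem hm₁), ← e₁, h.cj_inv_cj hm₁, e₂, ← hz₂,
    h.cj_inv_cj b.mem]

theorem Base.u_pt (t : F) : D.pt (D.u t) = D.pt 1 :=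
  b.toCfg.pt_eq_one (b.toCfg.u_mem_N t) one_ne_zero (a' := 1) (by rw [b.toCfg.cj_u]; simp)

theorem Base.ι_first (a : F) : D.cj D.ι (a, 0, 0) = (a, 0, 0) := by
  rw [b.toCfg.cj_ι, neg_zero]

theorem Base.mem_first {g : G} (hg : g ∈ D.N) (e : D.pt g = D.pt 1) (a : F) :
    D.cj g (a, 0, 0) = ((D.cj g (a, 0, 0)).1, 0, 0) := by
  have : D.cj g (a, 0, 0) ∈ D.pt 1 := e.subset ⟨a, rfl⟩
  exact Prod.ext rfl (b.toCfg.mem_pt_one.1 this)

/-- The stabiliser of the two points is diagonal. -/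
theorem Base.diag {g : G} (hg : g ∈ D.N) (e₁ : D.pt g = D.pt 1)
    (e₂ : D.cj g '' D.pt n₀ = D.pt n₀) :
    ∃ (r k : Fˣ), ∀ x y z, D.cj g (x, y, z) = ((r : F) * r * x, (r : F) * k * y, (k : F) * k * z) := by
  have h := b.toCfg
  obtain ⟨k, hk⟩ := b.scale hg e₂
  obtain ⟨g₁, hg₁⟩ : ∃ g₁, g₁ = D.d k⁻¹ * g := ⟨_, rfl⟩
  have hg₁N : g₁ ∈ D.N := hg₁ ▸ mul_mem (h.d_mem_N _) hg
  have hc : ∀ z, D.cj g₁ (0, 0, z) = (0, 0, z) := by
    have h1 : D.cj g₁ (0, 0, 1) = (0, 0, 1) := by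
      rw [hg₁, h.cj_mul hg, hk, h.cj_d]
      simp only [mul_zero, Prod.mk.injEq, true_and]
      rw [← Units.val_mul, ← Units.val_mul, ← Units.val_one]
      congr 1
      group
    exact fun z => h.fix_pt hg₁N b.mem (by simp [Prod.mk_eq_zero]) (b.second 1) h1 _ (b.second z)
  have hA : ∀ a, D.cj g₁ (a, 0, 0) = ((D.cj g₁ (a, 0, 0)).1, 0, 0) := fun a => by
    rw [hg₁, h.cj_mul hg, b.mem_first hg e₁, h.cj_d]; simp
  have hA' : D.pt g₁ = D.pt 1 := h.pt_eq_one hg₁N one_ne_zero (hA 1)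
  have hA'' : D.pt g₁⁻¹ = D.pt 1 := h.pt_eq_one (inv_mem hg₁N) (a := (D.cj g₁ (1, 0, 0)).1) (a' := 1)
    (fun e0 => one_ne_zero (congrArg Prod.fst (h.cj_inj hg₁N ((hA 1).trans (by
      rw [e0, h.cj_zero hg₁N]; rfl)) : ((1 : F), (0 : F), (0 : F)) = 0)))
    (by rw [← hA, h.cj_inv_cj hg₁N])
  have hcomm := b.comm_ι hg₁N (fun a => by rw [b.mem_first (inv_mem hg₁N) hA'' a, b.ι_first])
    (by
      have : D.cj g₁⁻¹ (0, 0, 1) = (0, 0, 1) := by
        conv_lhs => rw [← hc 1]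
        rw [h.cj_inv_cj hg₁N]
      rw [this, h.cj_ι, neg_zero])
  have hu : ∀ t, ∃ t', ∀ z, D.cj g₁ (t * t * z, t * z, z) = (t' * t' * z, t' * z, z) := by
    intro t
    obtain ⟨m, hm⟩ : ∃ m, m = g₁ * D.u t * g₁⁻¹ := ⟨_, rfl⟩
    have hmN : m ∈ D.N := hm ▸ mul_mem (mul_mem hg₁N (h.u_mem_N t)) (inv_mem hg₁N)
    have hmC : m ∈ D.C := by
      refine h.mem_C_of_fix hmN one_ne_zero ?_
      rw [hm, h.cj_mul (inv_mem hg₁N), h.cj_mul (h.u_mem_N t), b.mem_first (inv_mem hg₁N) hA'' 1,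
        h.cj_u]
      simp only [mul_zero, add_zero]
      rw [← b.mem_first (inv_mem hg₁N) hA'' 1, h.cj_cj_inv hg₁N]
    obtain ⟨x, t', hmx⟩ := h.pelem hmC hmN (k := 1) (by
      rw [pow_one, hm, conj_pow, h.u_pow_p, mul_one, mul_inv_cancel])
    refine ⟨t', fun z => ?_⟩
    have h1 : D.cj m (0, 0, z) = D.cj g₁ (t * t * z, t * z, z) := by
      rw [hm, h.cj_mul (inv_mem hg₁N), h.cj_mul (h.u_mem_N t)]
      have : D.cj g₁⁻¹ (0, 0, z) = (0, 0, z) := by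
        conv_lhs => rw [← hc z]
        rw [h.cj_inv_cj hg₁N]
      rw [this, h.cj_u]
      simp
    rw [← h1, hmx, h.cj_mul (h.u_mem_N t'), h.cj_μ, h.cj_u]
    simp
  obtain ⟨β, hβ⟩ : ∃ β, β = fun y => (D.cj g₁ (0, y, 0)).2.1 := ⟨_, rfl⟩
  obtain ⟨l, hl⟩ : ∃ l, l = fun a => (D.cj g₁ (a, 0, 0)).1 := ⟨_, rfl⟩
  have hform : ∀ x y z, D.cj g₁ (x, y, z) = (l x, β y, z) := fun x y z => by
    rw [b.split hg₁N, hA, b.middle hg₁N hcomm, hc, hl, hβ]
    simp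
  have hrel : ∀ t z, β (t * z) = β t * z ∧ l (t * t * z) = β t * β t * z := by
    intro t z
    obtain ⟨t', ht'⟩ := hu t
    have h1 := ht' 1
    have h2 := ht' z
    simp only [hform, Prod.mk.injEq, mul_one, and_true] at h1 h2
    rw [h1.2]
    exact ⟨h2.2, h2.1⟩
  have hβlin : ∀ y, β y = β 1 * y := fun y => by simpa using (hrel 1 y).1
  have hr : β 1 ≠ 0 := by
    intro e0
    have : D.cj g₁ (0, 1, 0) = 0 := by
      rw [hform, e0]
      have := (hrel 1 0).2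
      simp only [mul_zero] at this
      rw [this]; rfl
    have := h.cj_inj hg₁N (this.trans (h.cj_zero hg₁N).symm)
    simp [Prod.mk_eq_zero] at this
  refine ⟨Units.mk0 _ hr, k, fun x y z => ?_⟩
  have e : g = D.d k * g₁ := by
    rw [hg₁, ← mul_assoc, ← h.d_mul, mul_inv_cancel, h.d_one, one_mul]
  have hlx : l x = β 1 * β 1 * x := by simpa using (hrel 1 x).2
  rw [e, h.cj_mul hg₁N, hform, h.cj_d, hlx, hβlin y]
  simp [mul_comm, mul_left_comm]

theorem Base.exists_swap : ∃ w ∈ D.N, D.pt w = D.pt n₀ ∧ D.cj w '' D.pt n₀ = D.pt 1 := by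
  have h := b.toCfg
  obtain ⟨t, ht⟩ : ∃ t, D.pt n₀⁻¹ = D.pt (D.u t * n₀) := by
    refine (b.cover _ (inv_mem b.mem)).resolve_left fun e => b.second_ne ?_
    calc D.pt n₀ = D.cj n₀ '' D.pt 1 := by rw [h.image_pt (one_mem _), mul_one]
      _ = D.cj n₀ '' D.pt n₀⁻¹ := by rw [e]
      _ = _ := by rw [h.image_pt (inv_mem b.mem), mul_inv_cancel]
  refine ⟨n₀ * D.u t, mul_mem b.mem (h.u_mem_N t), ?_, ?_⟩
  · rw [h.pt_mul (h.u_mem_N t), b.u_pt, h.image_pt (one_mem _), mul_one]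
  · rw [h.image_pt b.mem, mul_assoc, h.pt_mul (mul_mem (h.u_mem_N t) b.mem), ← ht,
      h.image_pt (inv_mem b.mem), mul_inv_cancel]

/-- A lower unitriangular element for every parameter. -/
theorem Base.exists_lower (r : F) : ∃ n ∈ D.N, ∀ x y z,
    D.cj n (x, y, z) = (x, y + r * x, z + 2 * r * y + r * r * x) := by
  have h := b.toCfg
  obtain ⟨w, hw, hw1, hw2⟩ := b.exists_swap
  have hwi : D.pt w⁻¹ = D.pt n₀ := by
    calc D.pt w⁻¹ = D.cj w⁻¹ '' D.pt 1 := by rw [h.image_pt (one_mem _), mul_one]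
      _ = D.cj w⁻¹ '' (D.cj w '' D.pt n₀) := by rw [hw2]
      _ = _ := by rw [Set.image_image]; simp only [h.cj_inv_cj hw, Set.image_id']
  have hA : ∀ a, D.cj w (a, 0, 0) = (0, 0, (D.cj w (a, 0, 0)).2.2) := fun a => by
    have : D.cj w (a, 0, 0) ∈ D.pt n₀ := hw1.subset ⟨a, rfl⟩
    exact Prod.ext (b.mem_second.1 this).1 (Prod.ext (b.mem_second.1 this).2 rfl)
  have hC : ∀ c, D.cj w (0, 0, c) = ((D.cj w (0, 0, c)).1, 0, 0) := fun c => by
    have : D.cj w (0, 0, c) ∈ D.pt 1 := hw2.subset ⟨_, b.second c, rfl⟩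
    exact Prod.ext rfl (h.mem_pt_one.1 this)
  have hwiA : ∀ a, D.cj w⁻¹ (a, 0, 0) = (0, 0, (D.cj w⁻¹ (a, 0, 0)).2.2) := fun a => by
    have : D.cj w⁻¹ (a, 0, 0) ∈ D.pt n₀ := hwi.subset ⟨a, rfl⟩
    exact Prod.ext (b.mem_second.1 this).1 (Prod.ext (b.mem_second.1 this).2 rfl)
  have hwiC : ∀ c, (D.cj w⁻¹ (0, 0, c)).2 = 0 := fun c => by
    have : D.cj w⁻¹ (0, 0, c) ∈ D.cj w⁻¹ '' D.pt n₀ := ⟨_, b.second c, rfl⟩
    rw [← hw1, h.image_pt hw, inv_mul_cancel] at this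
    exact h.mem_pt_one.1 this
  have hwiC' : ∀ c, D.cj w⁻¹ (0, 0, c) = ((D.cj w⁻¹ (0, 0, c)).1, 0, 0) := fun c =>
    Prod.ext rfl (hwiC c)
  have hcomm := b.comm_ι hw (fun a => by rw [hwiA, h.cj_ι, neg_zero])
    (by rw [hwiC' 1, b.ι_first])
  obtain ⟨σ, hσdef⟩ : ∃ σ, σ = fun a => (D.cj w (a, 0, 0)).2.2 := ⟨_, rfl⟩
  obtain ⟨τ, hτdef⟩ : ∃ τ, τ = fun c => (D.cj w (0, 0, c)).1 := ⟨_, rfl⟩
  obtain ⟨β, hβdef⟩ : ∃ β, β = fun y => (D.cj w (0, y, 0)).2.1 := ⟨_, rfl⟩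
  have hform : ∀ x y z, D.cj w (x, y, z) = (τ z, β y, σ x) := fun x y z => by
    rw [b.split hw, hA, b.middle hw hcomm, hC, hσdef, hτdef, hβdef]
    simp
  have hzero : σ 0 = 0 ∧ τ 0 = 0 ∧ β 0 = 0 := by
    have := hform 0 0 0
    rw [show ((0 : F), (0 : F), (0 : F)) = 0 from rfl, h.cj_zero hw] at this
    exact ⟨(congrArg (fun v => v.2.2) this).symm, (congrArg Prod.fst this).symm,
      (congrArg (fun v => v.2.1) this).symm⟩
  obtain ⟨hσ0, hτ0, hβ0⟩ := hzero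
  have hadd : ∀ x x', σ (x + x') = σ x + σ x' ∧ τ (x + x') = τ x + τ x' ∧ β (x + x') = β x + β x' := by
    intro x x'
    have := h.cj_add hw (x, x, x) (x', x', x')
    simp only [Prod.mk_add_mk, hform, Prod.mk.injEq] at this
    exact ⟨this.2.2, this.1, this.2.1⟩
  have hne : ∀ x, x ≠ 0 → σ x ≠ 0 ∧ τ x ≠ 0 ∧ β x ≠ 0 := by
    intro x hx
    refine ⟨fun e => ?_, fun e => ?_, fun e => ?_⟩
    · have := h.cj_inj hw (x := (x, 0, 0)) (y := 0) (by rw [hform, e, hτ0, hβ0, h.cj_zero hw]; rfl)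
      simp [Prod.mk_eq_zero, hx] at this
    · have := h.cj_inj hw (x := (0, 0, x)) (y := 0) (by rw [hform, e, hσ0, hβ0, h.cj_zero hw]; rfl)
      simp [Prod.mk_eq_zero, hx] at this
    · have := h.cj_inj hw (x := (0, x, 0)) (y := 0) (by rw [hform, e, hτ0, hσ0, h.cj_zero hw]; rfl)
      simp [Prod.mk_eq_zero, hx] at this
  -- conjugating the torus
  have hpts : ∀ g ∈ D.N, (∀ a, (D.cj g (a, 0, 0)).2 = 0) → D.pt g = D.pt 1 := fun g hg hh =>
    h.pt_eq_one hg one_ne_zero (a' := (D.cj g (1, 0, 0)).1) (Prod.ext rfl (hh 1))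
  have hsec : ∀ g ∈ D.N, (∀ c, (D.cj g (0, 0, c)).1 = 0 ∧ (D.cj g (0, 0, c)).2.1 = 0) →
      D.cj g '' D.pt n₀ = D.pt n₀ := fun g hg hh => by
    rw [h.image_pt b.mem]
    refine h.pt_eq_of_mem b.mem (mul_mem hg b.mem) (x := D.cj g (0, 0, 1)) ?_ (b.mem_second.2 (hh 1))
      (by rw [h.pt_mul b.mem]; exact ⟨_, b.second 1, rfl⟩)
    intro e
    have := h.cj_inj hg (e.trans (h.cj_zero hg).symm)
    simp [Prod.mk_eq_zero] at this
  have hinvform : ∀ x y z, D.cj w⁻¹ (τ z, β y, σ x) = (x, y, z) := fun x y z => by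
    rw [← hform, h.cj_inv_cj hw]
  have hsurj : ∀ x y z, ∃ x' y' z', (x, y, z) = (τ z', β y', σ x') := fun x y z => by
    obtain ⟨x', y', z'⟩ := (⟨_, rfl⟩ : ∃ v, v = D.cj w⁻¹ (x, y, z))
    generalize hv : D.cj w⁻¹ (x, y, z) = v
    obtain ⟨x', y', z'⟩ := v
    exact ⟨x', y', z', by rw [← hform, ← hv, h.cj_cj_inv hw]⟩
  have hχ : ∀ s : Fˣ, ∃ χ : F, (∀ y, β ((s : F) * y) = χ * β y) ∧
      (∀ z, τ ((s : F) * s * z) = χ * χ * τ z) ∧
      ∀ x y z, D.cj (w * D.d s * w⁻¹) (τ z, β y, σ x) = (χ * χ * τ z, χ * β y, σ x) := by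
    intro s
    have hgN : w * D.d s * w⁻¹ ∈ D.N := mul_mem (mul_mem hw (h.d_mem_N s)) (inv_mem hw)
    have hg : ∀ x y z, D.cj (w * D.d s * w⁻¹) (τ z, β y, σ x) =
        (τ (s * s * z), β (s * y), σ x) := fun x y z => by
      rw [h.cj_mul (inv_mem hw), h.cj_mul (h.d_mem_N s), hinvform, h.cj_d, hform]
    obtain ⟨r, k, hrk⟩ := b.diag hgN (hpts _ hgN fun a => by
        obtain ⟨x', y', z', e⟩ := hsurj a 0 0
        simp only [Prod.mk.injEq] at e
        rw [e.1, show ((τ z', (0 : F), (0 : F)) : F × F × F) = (τ z', β 0, σ 0) by rw [hβ0, hσ0],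
          hg, mul_zero, hβ0, hσ0]
        rfl)
      (hsec _ hgN fun c => by
        obtain ⟨x', y', z', e⟩ := hsurj 0 0 c
        simp only [Prod.mk.injEq] at e
        rw [e.2.2, show (((0 : F), (0 : F), σ x') : F × F × F) = (τ 0, β 0, σ x') by rw [hβ0, hτ0],
          hg, mul_zero, mul_zero, hβ0, hτ0]
        exact ⟨rfl, rfl⟩)
    have h1 := hg 1 0 0
    have h2 := hrk (τ 0) (β 0) (σ 1)
    rw [h1, Prod.mk.injEq, Prod.mk.injEq] at h2
    have hkk : (k : F) * k = 1 := mul_right_cancel₀ (hne 1 one_ne_zero).1 (by rw [one_mul]; exact h2.2.2.symm)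
    refine ⟨(r : F) * k, fun y => ?_, fun z => ?_, fun x y z => ?_⟩
    · have h1 := hg 0 y 0
      rw [hrk, Prod.mk.injEq, Prod.mk.injEq] at h1
      exact h1.2.1.symm
    · have h1 := hg 0 0 z
      rw [hrk, Prod.mk.injEq, Prod.mk.injEq] at h1
      rw [← h1.1]
      linear_combination (-(r : F) * r * τ z) * hkk
    · rw [hrk, hkk, one_mul]
      refine Prod.ext ?_ rfl
      show (r : F) * r * τ z = (r : F) * k * ((r : F) * k) * τ z
      linear_combination (-(r : F) * r * τ z) * hkk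
  -- the field automorphism
  have hb1 : β 1 ≠ 0 := (hne 1 one_ne_zero).2.2
  have hθmul : ∀ x y, β (x * y) * β 1 = β x * β y := by
    intro x y
    by_cases hx : x = 0
    · subst hx; simp [hβ0]
    obtain ⟨χ, h1, -⟩ := hχ (Units.mk0 x hx)
    have h2 := h1 y
    have h3 := h1 1
    simp only [Units.val_mk0, mul_one] at h2 h3
    rw [h2, h3]; ring
  let θ : F →+* F :=
    { toFun := fun x => β x / β 1
      map_one' := div_self hb1
      map_mul' := fun x y => by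
        show β (x * y) / β 1 = β x / β 1 * (β y / β 1)
        field_simp
        linear_combination hθmul x y
      map_zero' := by show β 0 / β 1 = 0; rw [hβ0, zero_div]
      map_add' := fun x y => by
        show β (x + y) / β 1 = β x / β 1 + β y / β 1
        rw [(hadd x y).2.2, add_div] }
  have hβθ : ∀ x, β x = θ x * β 1 := fun x => (div_mul_cancel₀ _ hb1).symm
  have hχθ : ∀ s : Fˣ, ∀ z, τ ((s : F) * s * z) = θ ((s : F) * s) * τ z := by
    intro s z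
    obtain ⟨χ, h1, h2, -⟩ := hχ s
    have h3 := h1 1
    rw [mul_one, hβθ] at h3
    have h4 : θ (s : F) = χ := mul_right_cancel₀ hb1 h3
    rw [h2, map_mul, h4]
  have hsigma : ∀ s : Fˣ, ∀ x, σ (θ (s : F) * θ s * x) = θ (θ ((s : F) * s)) * σ x := by
    intro s x
    obtain ⟨χ, h1, -, h3⟩ := hχ s
    have h4 : θ (s : F) = χ := by
      have h3 := h1 1
      rw [mul_one, hβθ] at h3
      exact mul_right_cancel₀ hb1 h3
    subst h4
    have hχ0 : θ (s : F) ≠ 0 := (map_ne_zero θ).2 s.ne_zero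
    have hgN : w * D.d s * w⁻¹ ∈ D.N := mul_mem (mul_mem hw (h.d_mem_N s)) (inv_mem hw)
    have hg : ∀ x y z, D.cj (w * D.d s * w⁻¹) (x, y, z) =
        (θ (s : F) * θ s * x, θ (s : F) * y, z) := fun x y z => by
      obtain ⟨x', y', z', e⟩ := hsurj x y z
      simp only [Prod.mk.injEq] at e
      rw [e.1, e.2.1, e.2.2]
      exact h3 x' y' z'
    have hmN : w * (w * D.d s * w⁻¹) * w⁻¹ ∈ D.N := mul_mem (mul_mem hw hgN) (inv_mem hw)
    have hm : ∀ x y z, D.cj (w * (w * D.d s * w⁻¹) * w⁻¹) (τ z, β y, σ x) =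
        (τ z, β (θ (s : F) * y), σ (θ (s : F) * θ s * x)) := fun x y z => by
      rw [h.cj_mul (inv_mem hw), h.cj_mul hgN, hinvform, hg, hform]
    obtain ⟨r, k, hrk⟩ := b.diag hmN (hpts _ hmN fun a => by
        obtain ⟨x', y', z', e⟩ := hsurj a 0 0
        simp only [Prod.mk.injEq] at e
        rw [e.1, show ((τ z', (0 : F), (0 : F)) : F × F × F) = (τ z', β 0, σ 0) by rw [hβ0, hσ0],
          hm, mul_zero, mul_zero, hβ0, hσ0]
        rfl)
      (hsec _ hmN fun c => by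
        obtain ⟨x', y', z', e⟩ := hsurj 0 0 c
        simp only [Prod.mk.injEq] at e
        rw [e.2.2, show (((0 : F), (0 : F), σ x') : F × F × F) = (τ 0, β 0, σ x') by rw [hβ0, hτ0],
          hm, mul_zero, hβ0, hτ0]
        exact ⟨rfl, rfl⟩)
    have h5 := hm x 1 1
    rw [hrk, Prod.mk.injEq, Prod.mk.injEq, mul_one] at h5
    obtain ⟨hr, hrk', hk⟩ := h5
    have hrr : (r : F) * r = 1 := mul_right_cancel₀ (hne 1 one_ne_zero).2.1 (by rw [one_mul]; exact hr)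
    have hrk2 : (r : F) * k = θ (θ (s : F)) := mul_right_cancel₀ hb1 (by rw [hrk', hβθ])
    rw [← hk, map_mul, map_mul, ← hrk2]
    linear_combination (-(k : F) * k * σ x) * hrr
  have hspan : ∀ f : F → F, (∀ x y, f (x + y) = f x + f y) → ∀ g : F →+* F,
      (∀ s : Fˣ, ∀ z, f ((s : F) * s * z) = g ((s : F) * s) * f z) → ∀ v z, f (v * z) = g v * f z := by
    intro f hf g hs v z
    have h2 := h.two_ne
    have h0 : f 0 = 0 := by
      have := hf 0 0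
      rwa [add_zero, left_eq_add] at this
    have hsq : ∀ s z, f (s * s * z) = g (s * s) * f z := fun s z => by
      by_cases hs0 : s = 0
      · subst hs0; simp [h0]
      · exact hs (Units.mk0 s hs0) z
    have e : (v + 1) / 2 * ((v + 1) / 2) = v + (v - 1) / 2 * ((v - 1) / 2) := by field_simp; ring
    have h3 := hsq ((v + 1) / 2) z
    rw [e, add_mul, hf, map_add, hsq ((v - 1) / 2) z, add_mul, add_left_inj] at h3
    exact h3
  have hτlin : ∀ v z, τ (v * z) = θ v * τ z := hspan τ (fun x y => (hadd x y).2.1) θ hχθ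
  have hσlin : ∀ v z, σ (θ v * z) = θ (θ v) * σ z :=
    fun v z => hspan σ (fun x y => (hadd x y).1) θ (fun s z => by
      obtain ⟨x, hx⟩ := Finite.surjective_of_injective θ.injective (s : F)
      have hx0 : x ≠ 0 := fun e => s.ne_zero (by rw [← hx, e, map_zero])
      have := hsigma (Units.mk0 x hx0) z
      simp only [Units.val_mk0, hx] at this
      rw [this, map_mul θ x x, hx]) (θ v) z
  have hθ : ∀ x, θ (θ x) = x := by
    intro x
    have hwwN : w * w ∈ D.N := mul_mem hw hw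
    have hww : ∀ x y z, D.cj (w * w) (x, y, z) = (τ (σ x), β (β y), σ (τ z)) := fun x y z => by
      rw [h.cj_mul hw, hform, hform]
    obtain ⟨r, k, hrk⟩ := b.diag hwwN (hpts _ hwwN fun a => by rw [hww, hβ0, hβ0, hτ0, hσ0]; rfl)
      (hsec _ hwwN fun c => by rw [hww, hβ0, hβ0, hσ0, hτ0]; exact ⟨rfl, rfl⟩)
    have h1 := hrk 0 x 0
    have h2 := hrk 0 1 0
    rw [hww, Prod.mk.injEq, Prod.mk.injEq] at h1 h2
    have h5 : β (β x) = θ (θ x) * β (β 1) := by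
      rw [hβθ x, hβθ (θ x * β 1), map_mul, hβθ (β 1), mul_assoc]
    rw [h5, h2.2.1, mul_one] at h1
    have hrk0 : (r : F) * k ≠ 0 := mul_ne_zero r.ne_zero k.ne_zero
    exact mul_left_cancel₀ hrk0 (by rw [← h1.2.1, mul_comm])
  have hid : ∀ x, θ x = x := ringHom_eq_id h.mod4 θ hθ
  have hβl : ∀ x, β x = x * β 1 := fun x => by rw [hβθ, hid]
  have hτl : ∀ x, τ x = x * τ 1 := fun x => by
    have := hτlin x 1
    rwa [mul_one, hid] at this
  have hσl : ∀ x, σ x = x * σ 1 := fun x => by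
    have := hσlin x 1
    rwa [mul_one, hid, hid] at this
  -- the conic
  have hconic : β 1 * β 1 = τ 1 * σ 1 := by
    have hmem : ((1 : F), (1 : F), (1 : F)) ∈ D.pt (D.u 1 * n₀) := by
      have := h.translate_mem b.mem (φ := fun _ => 0) b.second 1
      simpa using this
    have hN : D.u 1 * n₀ ∈ D.N := mul_mem (h.u_mem_N _) b.mem
    have hm2 : (τ 1, β 1, σ 1) ∈ D.pt (w * (D.u 1 * n₀)) := by
      rw [h.pt_mul hN]; exact ⟨_, hmem, hform 1 1 1⟩
    rcases b.cover _ (mul_mem hw hN) with e | ⟨t, e⟩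
    · rw [e, h.mem_pt_one] at hm2
      exact absurd (congrArg Prod.snd hm2) (hne 1 one_ne_zero).1
    · rw [e, h.pt_mul b.mem] at hm2
      obtain ⟨⟨x, y, z⟩, hz, hz'⟩ := hm2
      obtain ⟨rfl, rfl⟩ : x = 0 ∧ y = 0 := b.mem_second.1 hz
      rw [h.cj_u, Prod.mk.injEq, Prod.mk.injEq] at hz'
      obtain ⟨e1, e2, e3⟩ := hz'
      rw [← e1, ← e2, ← e3]; ring
  have hτ1 : τ 1 ≠ 0 := (hne 1 one_ne_zero).2.1
  refine ⟨w * D.u (r * τ 1 / β 1) * w⁻¹,
    mul_mem (mul_mem hw (h.u_mem_N _)) (inv_mem hw), fun x y z => ?_⟩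
  obtain ⟨x', y', z', e⟩ := hsurj x y z
  simp only [Prod.mk.injEq] at e
  obtain ⟨rfl, rfl, rfl⟩ := e
  rw [h.cj_mul (inv_mem hw), h.cj_mul (h.u_mem_N _), hinvform, h.cj_u, hform]
  obtain ⟨T, hT⟩ : ∃ T, T = τ 1 := ⟨_, rfl⟩
  obtain ⟨B, hB⟩ : ∃ B, B = β 1 := ⟨_, rfl⟩
  obtain ⟨S', hS⟩ : ∃ S', S' = σ 1 := ⟨_, rfl⟩
  rw [← hT] at hτl hτ1 hconic ⊢
  rw [← hB] at hβl hb1 hconic ⊢
  rw [← hS] at hσl hconic
  simp only [hτl, hβl, hσl]
  refine Prod.ext rfl (Prod.ext ?_ ?_)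
  · field_simp
  · simp only
    field_simp
    linear_combination (-(r * r * z' * T) - 2 * r * y' * B) * hconic

end CfsgLib.Recog.SpFourP
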