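import Cfsg.Agent.Lib.Recog.SpFourP.Basic
import Cfsg.Agent.Lib.KnownA.SpStemP
import Cfsg.Agent.Lib.Geom.PSpInvol
import Cfsg.Prelude.Def_Classical

/-!
The centraliser of a transvection in `PSp₄`: the part normalising the abelian subgroup of order `q³`.
-/

set_option autoImplicit false
set_option linter.unusedSectionVars false

namespace CfsgLib.Recog.SpFourP

open Matrix CfsgLib.KnownA.SpSiegel

variable {F : Type*} [Field F] [Fintype F]

local notation "Sp4" => Matrix.symplecticGroup (Fin 2) F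
local notation "π" => QuotientGroup.mk' (Subgroup.center (Matrix.symplecticGroup (Fin 2) F))

/-- The symmetric matrix with entries `a, b, c`. -/
def sm (x : F × F × F) : Matrix (Fin 2) (Fin 2) F := !![x.1, x.2.1; x.2.1, x.2.2]

theorem sm_symm (x : F × F × F) : (sm x)ᵀ = sm x := by
  ext i j; fin_cases i <;> fin_cases j <;> simp [sm]

theorem sm_add (x y : F × F × F) : sm (x + y) = sm x + sm y := by
  ext i j; fin_cases i <;> fin_cases j <;> simp [sm]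

theorem eq_sm {S : Matrix (Fin 2) (Fin 2) F} (hS : Sᵀ = S) : S = sm (S 0 0, S 0 1, S 1 1) := by
  ext i j
  fin_cases i <;> fin_cases j <;> simp [sm]
  simpa using congrFun (congrFun hS 0) 1

theorem sm_injective : Function.Injective (sm (F := F)) := fun x y e => by
  have h1 := congrFun (congrFun e 0) 0
  have h2 := congrFun (congrFun e 0) 1
  have h3 := congrFun (congrFun e 1) 1
  simp [sm] at h1 h2 h3
  exact Prod.ext h1 (Prod.ext h2 h3)

/-- The root element of the Levi factor. -/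
def gU (t : F) : GL (Fin 2) F := ⟨!![1, t; 0, 1], !![1, -t; 0, 1],
  by ext i j; fin_cases i <;> fin_cases j <;> simp,
  by ext i j; fin_cases i <;> fin_cases j <;> simp⟩

/-- The torus element of the Levi factor. -/
def gT (s : Fˣ) : GL (Fin 2) F := ⟨!![1, 0; 0, (s : F)], !![1, 0; 0, ((s⁻¹ : Fˣ) : F)],
  by ext i j; fin_cases i <;> fin_cases j <;> simp,
  by ext i j; fin_cases i <;> fin_cases j <;> simp⟩

/-- The translations in `PSp₄`. -/
noncomputable def μ₀ (x : F × F × F) : Cfsg.PSp 2 F := π (up (sm x))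

/-- The root elements in `PSp₄`. -/
noncomputable def u₀ (t : F) : Cfsg.PSp 2 F := π (lev (gU t))

/-- The torus elements in `PSp₄`. -/
noncomputable def d₀ (s : Fˣ) : Cfsg.PSp 2 F := π (lev (gT s))

theorem μ₀_add (x y : F × F × F) : μ₀ (x + y) = μ₀ x * μ₀ y := by
  rw [μ₀, μ₀, μ₀, ← map_mul, up_add (sm_symm x) (sm_symm y), sm_add]

theorem μ₀_comm (x y : F × F × F) : μ₀ x * μ₀ y = μ₀ y * μ₀ x := by
  rw [← μ₀_add, ← μ₀_add, add_comm]

theorem μ₀_zero : μ₀ (0 : F × F × F) = 1 := by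
  have := μ₀_add (0 : F × F × F) 0
  rwa [add_zero, eq_comm, mul_eq_left] at this

theorem u₀_add (s t : F) : u₀ (s + t) = u₀ s * u₀ t := by
  rw [u₀, u₀, u₀, ← map_mul, ← map_mul]
  congr 2
  exact Units.ext (by ext i j; fin_cases i <;> fin_cases j <;> simp [gU, add_comm])

theorem u₀_zero : u₀ (0 : F) = 1 := by
  have := u₀_add (0 : F) 0
  rwa [add_zero, eq_comm, mul_eq_left] at this

theorem d₀_mul (s t : Fˣ) : d₀ (s * t) = d₀ s * d₀ t := by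
  rw [d₀, d₀, d₀, ← map_mul, ← map_mul]
  congr 2
  exact Units.ext (by ext i j; fin_cases i <;> fin_cases j <;> simp [gT, mul_comm])

theorem lev_μ₀ (g : GL (Fin 2) F) (x : F × F × F) (y : F × F × F)
    (e : act g (sm x) = sm y) : π (lev g) * μ₀ x = μ₀ y * π (lev g) := by
  rw [μ₀, μ₀, ← map_mul, ← map_mul, ← e, ← lev_conj g (sm_symm x), inv_mul_cancel_right]

theorem μu₀ (t a b c : F) :
    u₀ t * μ₀ (a, b, c) = μ₀ (a + 2 * t * b + t * t * c, b + t * c, c) * u₀ t :=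
  lev_μ₀ _ _ _ (by ext i j; fin_cases i <;> fin_cases j <;> simp [act, sm, gU, Matrix.mul_apply, Fin.sum_univ_two] <;> ring)

theorem μd₀ (s : Fˣ) (a b c : F) :
    d₀ s * μ₀ (a, b, c) = μ₀ (a, s * b, s * s * c) * d₀ s :=
  lev_μ₀ _ _ _ (by ext i j; fin_cases i <;> fin_cases j <;> simp [act, sm, gT, Matrix.mul_apply, Fin.sum_univ_two] <;> ring)

theorem ud₀ (s : Fˣ) (t : F) : d₀ s * u₀ t = u₀ (t * ↑s⁻¹) * d₀ s := by
  rw [u₀, u₀, d₀, ← map_mul, ← map_mul, ← map_mul, ← map_mul]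
  congr 2
  exact Units.ext (by ext i j; fin_cases i <;> fin_cases j <;> simp [gU, gT])

theorem eq_or_neg {g h : Sp4} (e : π g = π h) : g = h ∨ g = CfsgLib.Geom.spNeg 2 F * h := by
  rw [QuotientGroup.mk'_eq_mk'] at e
  obtain ⟨z, hz, rfl⟩ := e
  rcases CfsgLib.Geom.spLin_center (by norm_num) hz with h1 | h1
  · left
    have : z = 1 := CfsgLib.Geom.spLin_ext fun v => by rw [h1, CfsgLib.Geom.spLin_one]
    rw [this, mul_one]
  · right
    have : z = CfsgLib.Geom.spNeg 2 F := CfsgLib.Geom.spLin_ext fun v => by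
      rw [h1, CfsgLib.Geom.spLin_spNeg]
    have hc := Subgroup.mem_center_iff.1 (CfsgLib.Geom.spNeg_mem_center (m := 2) (F := F))
    have h2 : CfsgLib.Geom.spNeg 2 F * CfsgLib.Geom.spNeg 2 F = 1 := Subtype.ext (by
      simp [CfsgLib.Geom.spNeg])
    rw [this, ← mul_assoc, ← hc g, mul_assoc, h2, mul_one]

theorem π_spNeg_mul (g : Sp4) : π (CfsgLib.Geom.spNeg 2 F * g) = π g := by
  rw [map_mul, QuotientGroup.mk'_apply, (QuotientGroup.eq_one_iff _).2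
    CfsgLib.Geom.spNeg_mem_center, one_mul]

variable (h2 : (2 : F) ≠ 0)
include h2

theorem spNeg_ne_one : CfsgLib.Geom.spNeg 2 F ≠ 1 := fun e => by
  have h1 := congrArg (fun g : Sp4 => (g : Matrix (Fin 2 ⊕ Fin 2) (Fin 2 ⊕ Fin 2) F) (Sum.inl 0) (Sum.inl 0)) e
  simp [CfsgLib.Geom.spNeg] at h1
  exact h2 (by linear_combination -h1)

omit h2 in
theorem up_pow (S : Matrix (Fin 2) (Fin 2) F) (hS : Sᵀ = S) (k : ℕ) :
    up S ^ k = up ((k : F) • S) := by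
  induction k with
  | zero => rw [pow_zero, Nat.cast_zero, zero_smul, up_zero]
  | succ k ih =>
    rw [pow_succ, ih, up_add (by rw [transpose_smul, hS]) hS, Nat.cast_succ, add_smul, one_smul]

variable {p : ℕ} (hp : (p : F) = 0) (hodd : Odd p)
include hp hodd

/-- Relations between translations lift. -/
theorem lift_rel {g : Sp4} {x y : F × F × F} (e : π g * μ₀ x = μ₀ y * π g) :
    g * up (sm x) = up (sm y) * g := by
  rw [μ₀, μ₀, ← map_mul, ← map_mul] at e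
  rcases eq_or_neg e with h | h
  · exact h
  exfalso
  have h1 : g * up (sm x) * g⁻¹ = CfsgLib.Geom.spNeg 2 F * up (sm y) := by
    rw [h, mul_assoc, mul_inv_cancel_right]
  have hpow : ∀ z : F × F × F, up (sm z) ^ p = 1 := fun z => by
    rw [up_pow _ (sm_symm z), hp, zero_smul, up_zero]
  have hc : Commute (CfsgLib.Geom.spNeg 2 F) (up (sm y)) :=
    (Subgroup.mem_center_iff.1 CfsgLib.Geom.spNeg_mem_center _).symm
  have h3 : CfsgLib.Geom.spNeg 2 F * CfsgLib.Geom.spNeg 2 F = 1 := Subtype.ext (by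
    simp [CfsgLib.Geom.spNeg])
  have h4 := congrArg (· ^ p) h1
  simp only [conj_pow, hc.mul_pow, hpow, mul_one, mul_inv_cancel] at h4
  obtain ⟨k, hk⟩ := hodd
  rw [hk, pow_succ, pow_mul, sq, h3, one_pow, one_mul] at h4
  exact spNeg_ne_one h2 h4.symm

omit h2 hp hodd in
theorem blocks_rel {g : Sp4} {x y : F × F × F} (e : g * up (sm x) = up (sm y) * g) :
    (g : Matrix (Fin 2 ⊕ Fin 2) (Fin 2 ⊕ Fin 2) F).toBlocks₂₁ * sm x = 0 ∧
      (g : Matrix (Fin 2 ⊕ Fin 2) (Fin 2 ⊕ Fin 2) F).toBlocks₁₁ * sm x =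
        sm y * (g : Matrix (Fin 2 ⊕ Fin 2) (Fin 2 ⊕ Fin 2) F).toBlocks₂₂ := by
  have e' : (g : Matrix (Fin 2 ⊕ Fin 2) (Fin 2 ⊕ Fin 2) F) * (up (sm x) : Sp4) =
      ((up (sm y) : Sp4) : Matrix (Fin 2 ⊕ Fin 2) (Fin 2 ⊕ Fin 2) F) * g := congrArg Subtype.val e
  rw [up_val (sm_symm x), up_val (sm_symm y),
    ← fromBlocks_toBlocks (g : Matrix (Fin 2 ⊕ Fin 2) (Fin 2 ⊕ Fin 2) F), fromBlocks_multiply,
    fromBlocks_multiply, fromBlocks_inj] at e'
  simp only [Matrix.mul_one, Matrix.mul_zero, Matrix.one_mul, Matrix.zero_mul, add_zero, zero_add] at e'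
  obtain ⟨-, h12, -, h22⟩ := e'
  exact ⟨add_eq_right.1 h22, add_right_cancel (h12.trans (add_comm _ _))⟩

omit h2 hp hodd in
theorem blocks_symp (g : Sp4) :
    (g : Matrix (Fin 2 ⊕ Fin 2) (Fin 2 ⊕ Fin 2) F).toBlocks₁₁ *
          (g : Matrix (Fin 2 ⊕ Fin 2) (Fin 2 ⊕ Fin 2) F).toBlocks₂₂ᵀ -
        (g : Matrix (Fin 2 ⊕ Fin 2) (Fin 2 ⊕ Fin 2) F).toBlocks₁₂ *
          (g : Matrix (Fin 2 ⊕ Fin 2) (Fin 2 ⊕ Fin 2) F).toBlocks₂₁ᵀ = 1 ∧
      (g : Matrix (Fin 2 ⊕ Fin 2) (Fin 2 ⊕ Fin 2) F).toBlocks₁₂ *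
          (g : Matrix (Fin 2 ⊕ Fin 2) (Fin 2 ⊕ Fin 2) F).toBlocks₁₁ᵀ =
        (g : Matrix (Fin 2 ⊕ Fin 2) (Fin 2 ⊕ Fin 2) F).toBlocks₁₁ *
          (g : Matrix (Fin 2 ⊕ Fin 2) (Fin 2 ⊕ Fin 2) F).toBlocks₁₂ᵀ := by
  have e := SymplecticGroup.mem_iff.1 g.2
  rw [Matrix.J, ← fromBlocks_toBlocks (g : Matrix (Fin 2 ⊕ Fin 2) (Fin 2 ⊕ Fin 2) F),
    fromBlocks_transpose, fromBlocks_multiply, fromBlocks_multiply, fromBlocks_inj] at e
  simp only [Matrix.mul_zero, zero_add, Matrix.mul_neg, Matrix.mul_one, add_zero, Matrix.neg_mul] at e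
  obtain ⟨e1, e2, -, -⟩ := e
  refine ⟨?_, eq_of_sub_eq_zero ((sub_eq_add_neg _ _).trans e1)⟩
  have h := congrArg (fun M => -M) e2
  simp only [neg_neg] at h
  rw [← h]
  abel

/-- Elements commuting with all translations and one root element are central translations. -/
theorem eq_μ₀_of_commute {z : Cfsg.PSp 2 F} (hμ : ∀ x, z * μ₀ x = μ₀ x * z)
    (hu : z * u₀ 1 = u₀ 1 * z) : ∃ a, z = μ₀ (a, 0, 0) := by
  obtain ⟨g, rfl⟩ := QuotientGroup.mk'_surjective _ z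
  have hr := fun x => blocks_rel (lift_rel h2 hp hodd (hμ x))
  obtain ⟨hs1, hs2⟩ := blocks_symp g
  generalize hA : (g : Matrix (Fin 2 ⊕ Fin 2) (Fin 2 ⊕ Fin 2) F).toBlocks₁₁ = A at hr hs1 hs2
  generalize hB : (g : Matrix (Fin 2 ⊕ Fin 2) (Fin 2 ⊕ Fin 2) F).toBlocks₁₂ = B at hr hs1 hs2
  generalize hC : (g : Matrix (Fin 2 ⊕ Fin 2) (Fin 2 ⊕ Fin 2) F).toBlocks₂₁ = C at hr hs1 hs2
  generalize hD : (g : Matrix (Fin 2 ⊕ Fin 2) (Fin 2 ⊕ Fin 2) F).toBlocks₂₂ = D at hr hs1 hs2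
  have hone : sm ((1 : F), (0 : F), (1 : F)) = 1 := by
    ext i j; fin_cases i <;> fin_cases j <;> simp [sm]
  have hC0 : C = 0 := by simpa [hone] using (hr (1, 0, 1)).1
  have hAD : A = D := by simpa [hone] using (hr (1, 0, 1)).2
  subst hC0 hAD
  have hoff := (hr (1, 0, 0)).2
  have h01 : A 0 1 = 0 := by simpa [sm, Matrix.mul_apply, eq_comm] using congrFun (congrFun hoff 0) 1
  have h10 : A 1 0 = 0 := by simpa [sm, Matrix.mul_apply] using congrFun (congrFun hoff 1) 0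
  have hd : A 0 0 = A 1 1 := by
    simpa [sm, Matrix.mul_apply, h01, h10] using congrFun (congrFun (hr (0, 1, 0)).2 0) 1
  have hsq : A 0 0 * A 0 0 = 1 := by
    simpa [Matrix.mul_apply, h01] using congrFun (congrFun hs1 0) 0
  obtain ⟨ε, hε⟩ : ∃ ε, ε = A 0 0 := ⟨_, rfl⟩
  have hA' : A = ε • (1 : Matrix (Fin 2) (Fin 2) F) := by
    ext i j; fin_cases i <;> fin_cases j <;> simp [h01, h10, ← hd, hε]
  have hS : (ε • B)ᵀ = ε • B := by
    rw [hA'] at hs2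
    simp at hs2
    rw [Matrix.transpose_smul]
    exact hs2.symm
  have hg : π g = μ₀ (ε * B 0 0, ε * B 0 1, ε * B 1 1) := by
    have hsm : sm (ε * B 0 0, ε * B 0 1, ε * B 1 1) = ε • B := by
      conv_rhs => rw [eq_sm hS]
      simp
    rw [μ₀, hsm]
    rcases mul_self_eq_one_iff.1 hsq with h1 | h1
    · congr 1
      refine Subtype.ext ?_
      rw [up_val hS, ← fromBlocks_toBlocks (g : Matrix (Fin 2 ⊕ Fin 2) (Fin 2 ⊕ Fin 2) F), hA, hB, hC, hD]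
      rw [← hε] at h1
      rw [hA', h1, one_smul, one_smul]
    · rw [← π_spNeg_mul g]
      congr 1
      refine Subtype.ext ?_
      rw [up_val hS]
      show (-1 : Matrix (Fin 2 ⊕ Fin 2) (Fin 2 ⊕ Fin 2) F) * (g : Matrix (Fin 2 ⊕ Fin 2) (Fin 2 ⊕ Fin 2) F) = _
      rw [← hε] at h1
      rw [← fromBlocks_toBlocks (g : Matrix (Fin 2 ⊕ Fin 2) (Fin 2 ⊕ Fin 2) F), hA, hB, hC, hD, neg_one_mul,
        fromBlocks_neg, hA', h1]
      simp
  rw [hg] at hu ⊢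
  generalize ε * B 0 0 = a at hu ⊢
  generalize ε * B 0 1 = b at hu ⊢
  generalize ε * B 1 1 = c at hu ⊢
  rw [μu₀, mul_left_inj] at hu
  rw [μ₀, μ₀] at hu
  have h1 : sm (a, b, c) = sm (a + 2 * 1 * b + 1 * 1 * c, b + 1 * c, c) := by
    rcases eq_or_neg hu with h3 | h3
    · exact up_injOn (sm_symm _) (sm_symm _) h3
    · exfalso
      have := congrArg (fun g : Sp4 =>
        (g : Matrix (Fin 2 ⊕ Fin 2) (Fin 2 ⊕ Fin 2) F) (Sum.inl 0) (Sum.inl 0)) h3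
      simp [up_val (sm_symm _), CfsgLib.Geom.spNeg] at this
      exact h2 (by linear_combination this)
  have h3 := sm_injective h1
  simp only [Prod.mk.injEq, one_mul, mul_one] at h3
  obtain rfl : c = 0 := by linear_combination -h3.2.1
  obtain rfl : b = 0 := by
    have : (2 : F) * b = 0 := by linear_combination -h3.1
    exact (mul_eq_zero.1 this).resolve_left h2
  exact ⟨a, rfl⟩

omit hp hodd in
theorem eq_one₀ (x : F × F × F) (t : F) (s : Fˣ) (e : μ₀ x * u₀ t * d₀ s = 1) :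
    x = 0 ∧ t = 0 ∧ s = 1 := by
  rw [μ₀, u₀, d₀, ← map_mul, ← map_mul, ← map_one π] at e
  have hv : ((up (sm x) * lev (gU t) * lev (gT s) : Sp4) : Matrix (Fin 2 ⊕ Fin 2) (Fin 2 ⊕ Fin 2) F) =
      fromBlocks !![1, t * s; 0, (s : F)] (sm x * !![1, 0; -t, ((s⁻¹ : Fˣ) : F)]) 0
        !![1, 0; -t, ((s⁻¹ : Fˣ) : F)] := by
    show ((up (sm x) : Sp4) : Matrix (Fin 2 ⊕ Fin 2) (Fin 2 ⊕ Fin 2) F) * lev (gU t) * lev (gT s) = _
    rw [up_val (sm_symm x), lev_val, lev_val, fromBlocks_multiply, fromBlocks_multiply]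
    have e1 : ((gU t : GL (Fin 2) F) : Matrix (Fin 2) (Fin 2) F) * (gT s : GL (Fin 2) F) =
        !![1, t * s; 0, (s : F)] := by
      ext i j; fin_cases i <;> fin_cases j <;> simp [gU, gT]
    have e2 : ((gU t)⁻¹ : GL (Fin 2) F).val ᵀ * ((gT s)⁻¹ : GL (Fin 2) F).val ᵀ =
        !![1, 0; -t, ((s⁻¹ : Fˣ) : F)] := by
      ext i j; fin_cases i <;> fin_cases j <;> simp [gU, gT, Units.inv_mk, Matrix.mul_apply, Fin.sum_univ_two]
    simp only [Matrix.mul_zero, Matrix.zero_mul, add_zero, zero_add, Matrix.one_mul, Matrix.mul_assoc, e1, e2]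
  rcases eq_or_neg e with h | h
  · have h' := congrArg Subtype.val h
    rw [hv, OneMemClass.coe_one, ← fromBlocks_one, fromBlocks_inj] at h'
    obtain ⟨h1, h3, -, h4⟩ := h'
    rw [h4, Matrix.mul_one] at h3
    have hs : s = 1 := Units.ext (by simpa using congrFun (congrFun h1 1) 1)
    have ht : t = 0 := by simpa [hs] using congrFun (congrFun h1 0) 1
    exact ⟨sm_injective (h3.trans (by ext i j; fin_cases i <;> fin_cases j <;> simp [sm])), ht, hs⟩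
  · exfalso
    have h' := congrArg Subtype.val h
    rw [hv, mul_one] at h'
    have := congrFun (congrFun h' (Sum.inl 0)) (Sum.inl 0)
    simp [CfsgLib.Geom.spNeg] at this
    exact h2 (by linear_combination this)

omit h2 hp hodd in
theorem up_scalar (a : F) :
    ((up (sm (a, 0, 0)) : Sp4) : Matrix (Fin 2 ⊕ Fin 2) (Fin 2 ⊕ Fin 2) F) =
      1 + a • fromBlocks 0 (sm (1, 0, 0)) 0 0 := by
  rw [up_val (sm_symm _), fromBlocks_smul, ← fromBlocks_one, fromBlocks_add]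
  simp only [smul_zero, add_zero, zero_add]
  congr 1
  ext i j; fin_cases i <;> fin_cases j <;> simp [sm]

theorem cent₀ {a : F} (ha : a ≠ 0) :
    Subgroup.centralizer ({μ₀ (a, 0, 0)} : Set (Cfsg.PSp 2 F)) =
      Subgroup.centralizer ({μ₀ (1, 0, 0)} : Set (Cfsg.PSp 2 F)) := by
  have key : ∀ a b : F, a ≠ 0 → ∀ z : Cfsg.PSp 2 F, z * μ₀ (a, 0, 0) = μ₀ (a, 0, 0) * z →
      z * μ₀ (b, 0, 0) = μ₀ (b, 0, 0) * z := by
    intro a b ha z hz
    obtain ⟨g, rfl⟩ := QuotientGroup.mk'_surjective _ z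
    have hl := congrArg Subtype.val (lift_rel h2 hp hodd hz)
    rw [μ₀, ← map_mul, ← map_mul]
    congr 1
    refine Subtype.ext ?_
    show (g : Matrix (Fin 2 ⊕ Fin 2) (Fin 2 ⊕ Fin 2) F) * ((up (sm (b, 0, 0)) : Sp4) : Matrix (Fin 2 ⊕ Fin 2) (Fin 2 ⊕ Fin 2) F) = _
    change (g : Matrix (Fin 2 ⊕ Fin 2) (Fin 2 ⊕ Fin 2) F) * ((up (sm (a, 0, 0)) : Sp4) : Matrix (Fin 2 ⊕ Fin 2) (Fin 2 ⊕ Fin 2) F) =
      ((up (sm (a, 0, 0)) : Sp4) : Matrix (Fin 2 ⊕ Fin 2) (Fin 2 ⊕ Fin 2) F) * g at hl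
    show _ = ((up (sm (b, 0, 0)) : Sp4) : Matrix (Fin 2 ⊕ Fin 2) (Fin 2 ⊕ Fin 2) F) * g
    rw [up_scalar] at hl ⊢
    rw [mul_add, add_mul, mul_one, one_mul, add_right_inj, mul_smul_comm, smul_mul_assoc] at hl ⊢
    rw [smul_right_injective _ ha hl]
  ext z
  rw [Subgroup.mem_centralizer_singleton_iff, Subgroup.mem_centralizer_singleton_iff]
  exact ⟨key a 1 ha z, key 1 a one_ne_zero z⟩

/-- The normaliser of the translations in the centraliser of a root element. -/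
theorem normC₀ {z : Cfsg.PSp 2 F} (hz : z * μ₀ (1, 0, 0) = μ₀ (1, 0, 0) * z)
    (hn : ∀ x, ∃ y, z * μ₀ x = μ₀ y * z) : ∃ x t s, z = μ₀ x * u₀ t * d₀ s := by
  obtain ⟨g₀, rfl⟩ := QuotientGroup.mk'_surjective _ z
  have main : ∀ g : Sp4, π g = π g₀ →
      (g : Matrix (Fin 2 ⊕ Fin 2) (Fin 2 ⊕ Fin 2) F) (Sum.inl 0) (Sum.inl 0) = 1 →
      ∃ x t s, π g₀ = μ₀ x * u₀ t * d₀ s := by
    intro g hg h00
    rw [← hg] at hz hn ⊢
    obtain ⟨y, hy⟩ := hn (1, 0, 1)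
    have hone : sm ((1 : F), (0 : F), (1 : F)) = 1 := by
      ext i j; fin_cases i <;> fin_cases j <;> simp [sm]
    obtain ⟨h21, -⟩ := blocks_rel (lift_rel h2 hp hodd hy)
    rw [hone, Matrix.mul_one] at h21
    obtain ⟨-, hE⟩ := blocks_rel (lift_rel h2 hp hodd hz)
    obtain ⟨hs1, hs2⟩ := blocks_symp g
    rw [h21, Matrix.transpose_zero, Matrix.mul_zero, sub_zero] at hs1
    have h11 : (g : Matrix (Fin 2 ⊕ Fin 2) (Fin 2 ⊕ Fin 2) F).toBlocks₁₁ 0 0 = 1 := h00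
    have hblk := fromBlocks_toBlocks (g : Matrix (Fin 2 ⊕ Fin 2) (Fin 2 ⊕ Fin 2) F)
    rw [h21] at hblk
    generalize (g : Matrix (Fin 2 ⊕ Fin 2) (Fin 2 ⊕ Fin 2) F).toBlocks₁₁ = A at hblk hE hs1 hs2 h11
    generalize (g : Matrix (Fin 2 ⊕ Fin 2) (Fin 2 ⊕ Fin 2) F).toBlocks₁₂ = B at hblk hs2
    generalize (g : Matrix (Fin 2 ⊕ Fin 2) (Fin 2 ⊕ Fin 2) F).toBlocks₂₂ = D at hblk hE hs1
    have h10 : A 1 0 = 0 := by simpa [sm, Matrix.mul_apply] using congrFun (congrFun hE 1) 0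
    have hdet : A 1 1 ≠ 0 := by
      intro e
      have := congrArg Matrix.det hs1
      rw [Matrix.det_mul, Matrix.det_fin_two A, e, h10] at this
      simp at this
    have hS : (B * Aᵀ)ᵀ = B * Aᵀ := by
      rw [Matrix.transpose_mul, Matrix.transpose_transpose]
      exact hs2.symm
    refine ⟨((B * Aᵀ) 0 0, (B * Aᵀ) 0 1, (B * Aᵀ) 1 1), A 0 1 / A 1 1, Units.mk0 _ hdet, ?_⟩
    rw [μ₀, u₀, d₀, ← map_mul, ← map_mul, ← eq_sm hS, mul_assoc, ← map_mul]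
    congr 1
    have hAg : ((gU (A 0 1 / A 1 1) * gT (Units.mk0 _ hdet) : GL (Fin 2) F) :
        Matrix (Fin 2) (Fin 2) F) = A := by
      ext i j; fin_cases i <;> fin_cases j <;> simp [gU, gT, h11, h10, hdet]
    generalize gU (A 0 1 / A 1 1) * gT (Units.mk0 _ hdet) = gl at hAg ⊢
    have hDt : Dᵀ = ((gl⁻¹ : GL (Fin 2) F) : Matrix (Fin 2) (Fin 2) F) := by
      rw [← Matrix.one_mul Dᵀ, ← Units.inv_mul gl, Matrix.mul_assoc, hAg, hs1, Matrix.mul_one]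
    have hAD : Aᵀ * D = 1 := by
      rw [← Matrix.transpose_transpose D, hDt, ← hAg, ← Matrix.transpose_mul, Units.inv_mul,
        Matrix.transpose_one]
    refine Subtype.ext ?_
    show (g : Matrix (Fin 2 ⊕ Fin 2) (Fin 2 ⊕ Fin 2) F) =
      ((up (B * Aᵀ) : Sp4) : Matrix (Fin 2 ⊕ Fin 2) (Fin 2 ⊕ Fin 2) F) * lev gl
    rw [up_val hS, lev_val, fromBlocks_multiply, ← hDt, Matrix.transpose_transpose, hAg]
    simp [Matrix.mul_assoc, hAD, hblk]
  obtain ⟨y, hy⟩ := hn (1, 0, 1)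
  have hone : sm ((1 : F), (0 : F), (1 : F)) = 1 := by
    ext i j; fin_cases i <;> fin_cases j <;> simp [sm]
  obtain ⟨h21, -⟩ := blocks_rel (lift_rel h2 hp hodd hy)
  rw [hone, Matrix.mul_one] at h21
  obtain ⟨-, hE⟩ := blocks_rel (lift_rel h2 hp hodd hz)
  obtain ⟨hs1, -⟩ := blocks_symp g₀
  rw [h21, Matrix.transpose_zero, Matrix.mul_zero, sub_zero] at hs1
  have h00 : (g₀ : Matrix (Fin 2 ⊕ Fin 2) (Fin 2 ⊕ Fin 2) F) (Sum.inl 0) (Sum.inl 0) =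
      (g₀ : Matrix (Fin 2 ⊕ Fin 2) (Fin 2 ⊕ Fin 2) F).toBlocks₁₁ 0 0 := rfl
  have hd : (g₀ : Matrix (Fin 2 ⊕ Fin 2) (Fin 2 ⊕ Fin 2) F).toBlocks₁₁ 0 0 =
      (g₀ : Matrix (Fin 2 ⊕ Fin 2) (Fin 2 ⊕ Fin 2) F).toBlocks₂₂ 0 0 := by
    simpa [sm, Matrix.mul_apply] using congrFun (congrFun hE 0) 0
  have h01 : (g₀ : Matrix (Fin 2 ⊕ Fin 2) (Fin 2 ⊕ Fin 2) F).toBlocks₂₂ 0 1 = 0 := by
    simpa [sm, Matrix.mul_apply, eq_comm] using congrFun (congrFun hE 0) 1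
  have hsq : (g₀ : Matrix (Fin 2 ⊕ Fin 2) (Fin 2 ⊕ Fin 2) F).toBlocks₁₁ 0 0 *
      (g₀ : Matrix (Fin 2 ⊕ Fin 2) (Fin 2 ⊕ Fin 2) F).toBlocks₁₁ 0 0 = 1 := by
    simpa [Matrix.mul_apply, h01, ← hd] using congrFun (congrFun hs1 0) 0
  rcases mul_self_eq_one_iff.1 hsq with h1 | h1
  · exact main g₀ rfl (h00.trans h1)
  · refine main (CfsgLib.Geom.spNeg 2 F * g₀) (π_spNeg_mul g₀) ?_
    show ((-1 : Matrix (Fin 2 ⊕ Fin 2) (Fin 2 ⊕ Fin 2) F) * (g₀ : Matrix (Fin 2 ⊕ Fin 2) (Fin 2 ⊕ Fin 2) F)) _ _ = 1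
    rw [neg_one_mul, Matrix.neg_apply, h00, h1, neg_neg]

end CfsgLib.Recog.SpFourP
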