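import Cfsg.Agent.Lib.Recog.SpFourP.Count

/-!
There is exactly one graph point.
-/

set_option autoImplicit false
set_option linter.unusedSectionVars false

namespace CfsgLib.Recog.SpFourP

open Subgroup
open scoped Pointwise

variable {G : Type*} [Group G] [Finite G] {F : Type*} [Field F] [Finite F]
  {D : Data G F} {p : ℕ}

/-- The functions whose graphs are points. -/
def Data.Graphs (D : Data G F) : Type _ :=
  {φ : F → F // ∃ n ∈ D.N, ∀ c, (φ c, 0, c) ∈ D.pt n}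

instance (D : Data G F) : Finite D.Graphs := Subtype.finite

theorem exists_arith_one {f ε j r q : ℕ} (hq : q = 2 * r + 1) (hr : r % 2 = 1) (hε : ε ≤ 1)
    (hf : f = ε + j * r) (hle : f ≤ q) (h1 : 1 ≤ f) (hd : f + 1 ∣ 2 * r) : f = 1 := by
  have h2r := Nat.le_of_dvd (by omega) hd
  have hj : j < 2 := by
    by_contra hj
    have : 2 * r ≤ j * r := Nat.mul_le_mul_right r (by omega)
    omega
  interval_cases j
  · omega
  · interval_cases ε
    · simp only [one_mul, zero_add] at hf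
      have hd : r + 1 ∣ 2 * r := hf ▸ hd
      have h3 : r + 1 ∣ 2 := by
        have h4 := Nat.dvd_sub (dvd_mul_left (r + 1) 2) hd
        rwa [show 2 * (r + 1) - 2 * r = 2 by omega] at h4
      have := Nat.le_of_dvd (by norm_num) h3
      omega
    · simp only [one_mul] at hf
      have hd : 1 + r + 1 ∣ 2 * r := hf ▸ hd
      have h3 : 1 + r + 1 ∣ 4 := by
        have h4 := Nat.dvd_sub (dvd_mul_left (1 + r + 1) 2) hd
        rwa [show 2 * (1 + r + 1) - 2 * r = 4 by omega] at h4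
      have := Nat.le_of_dvd (by norm_num) h3
      rcases (show r = 1 ∨ r = 2 by omega) with rfl | rfl
      · norm_num at h3
      · omega

variable (h : Cfg D p)
include h

theorem Cfg.exists_third {n : G} (hn : n ∈ D.N) (hne : D.pt n ≠ D.pt 1) (c : F) :
    ∃ v ∈ D.pt n, v.2.2 = c := by
  have hinj : Function.Injective fun a : F => (D.cj n (a, 0, 0)).2.2 := fun a b e => by
    have := h.cj_inj hn (h.unique_one hn hne ⟨a, rfl⟩ ⟨b, rfl⟩ e)
    exact congrArg Prod.fst this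
  obtain ⟨a, ha⟩ := Finite.surjective_of_injective hinj c
  exact ⟨_, ⟨a, rfl⟩, ha⟩

theorem Cfg.graph_ne {φ : F → F} {n : G} (he : ∀ c, (φ c, 0, c) ∈ D.pt n) : D.pt n ≠ D.pt 1 :=
  h.ne_one_of_mem (he 1) one_ne_zero

theorem Cfg.graph_eq {φ : F → F} {n : G} (hn : n ∈ D.N) (he : ∀ c, (φ c, 0, c) ∈ D.pt n) :
    D.pt n = Set.range fun c => (φ c, (0 : F), c) := by
  refine Set.Subset.antisymm (fun v hv => ?_) ?_
  · exact ⟨v.2.2, (h.unique_one hn (h.graph_ne he) hv (he v.2.2) rfl).symm⟩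
  · rintro _ ⟨c, rfl⟩
    exact he c

theorem Cfg.graph_add {φ : F → F} {n : G} (hn : n ∈ D.N) (he : ∀ c, (φ c, 0, c) ∈ D.pt n) (x y : F) :
    φ (x + y) = φ x + φ y := by
  have := h.unique_one hn (h.graph_ne he) (h.pt_add hn (he x) (he y)) (he (x + y)) (by simp)
  exact (congrArg Prod.fst this).symm

/-- Every other point is a translate of a graph point. -/
theorem Cfg.exists_graph {n : G} (hn : n ∈ D.N) (hne : D.pt n ≠ D.pt 1) :
    ∃ t : F, ∃ φ : F → F, ∀ c, (φ c, 0, c) ∈ D.pt (D.u t * n) := by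
  obtain ⟨⟨a, b, c⟩, hv, hc⟩ := h.exists_one hn hne
  obtain rfl : c = 1 := hc
  have hm : D.u (-b) * n ∈ D.N := mul_mem (h.u_mem_N _) hn
  have hw : (a - b * b, (0 : F), (1 : F)) ∈ D.pt (D.u (-b) * n) := by
    rw [h.pt_mul hn]
    refine ⟨_, hv, ?_⟩
    rw [h.cj_u]
    refine Prod.ext ?_ (Prod.ext ?_ rfl) <;> simp
    ring
  have hne' := h.ne_one_of_mem hw one_ne_zero
  have hw0 : (a - b * b, (0 : F), (1 : F)) ≠ 0 := by simp [Prod.mk_eq_zero]
  have hfix := h.fix_pt h.ι_mem hm hw0 hw (by rw [h.cj_ι]; simp)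
  refine ⟨-b, fun c => (h.exists_third hm hne' c).choose.1, fun c => ?_⟩
  obtain ⟨hmem, hc'⟩ := (h.exists_third hm hne' c).choose_spec
  show ((h.exists_third hm hne' c).choose.1, (0 : F), c) ∈ _
  generalize (h.exists_third hm hne' c).choose = v at hmem hc' ⊢
  obtain ⟨a', b', c'⟩ := v
  obtain rfl : c' = c := hc'
  have h5 := congrArg (fun x => x.2.1) (hfix _ hmem)
  simp only [h.cj_ι] at h5
  have h6 : (2 : F) * b' = 0 := by linear_combination -h5
  obtain rfl : b' = 0 := (mul_eq_zero.1 h6).resolve_left h.two_ne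
  exact hmem

theorem Cfg.translate_mem {φ : F → F} {n : G} (hn : n ∈ D.N) (he : ∀ c, (φ c, 0, c) ∈ D.pt n)
    (t : F) : (φ 1 + t * t, t, (1 : F)) ∈ D.pt (D.u t * n) := by
  rw [h.pt_mul hn]
  refine ⟨_, he 1, ?_⟩
  rw [h.cj_u]
  simp

theorem Cfg.translate_eq {φ ψ : F → F} {n m : G} (hn : n ∈ D.N) (hm : m ∈ D.N)
    (hφ : ∀ c, (φ c, 0, c) ∈ D.pt n) (hψ : ∀ c, (ψ c, 0, c) ∈ D.pt m) {t s : F}
    (e : D.pt (D.u t * n) = D.pt (D.u s * m)) : t = s ∧ φ = ψ := by
  have h1 := h.translate_mem hn hφ t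
  have h2 := h.translate_mem hm hψ s
  rw [e] at h1
  have h3 := h.unique_one (mul_mem (h.u_mem_N s) hm) (h.ne_one_of_mem h2 one_ne_zero) h1 h2 rfl
  simp only [Prod.mk.injEq, and_true] at h3
  obtain ⟨h4, rfl⟩ := h3
  have h5 : φ 1 = ψ 1 := add_right_cancel h4
  have h6 : D.pt m = D.pt n := h.pt_eq_of_mem hn hm (x := (φ 1, 0, 1))
    (by simp [Prod.mk_eq_zero]) (hφ 1) (h5 ▸ hψ 1)
  refine ⟨rfl, funext fun c => ?_⟩
  exact congrArg Prod.fst (h.unique_one hn (h.graph_ne hφ) (hφ c) (h6.subset (hψ c)) rfl)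

theorem Cfg.graphs_le : Nat.card D.Graphs ≤ Nat.card F := by
  refine Nat.card_le_card_of_injective (fun φ : D.Graphs => φ.1 1) fun ⟨φ, n, hn, hφ⟩ ⟨ψ, m, hm, hψ⟩ e => ?_
  have e' : φ 1 = ψ 1 := e
  have h6 : D.pt m = D.pt n := h.pt_eq_of_mem hn hm (x := (φ 1, 0, 1))
    (by simp [Prod.mk_eq_zero]) (hφ 1) (e' ▸ hψ 1)
  exact Subtype.ext (funext fun c =>
    congrArg Prod.fst (h.unique_one hn (h.graph_ne hφ) (hφ c) (h6.subset (hψ c)) rfl))

theorem Cfg.graph_smul {φ : F → F} {n : G} (hn : n ∈ D.N) (hφ : ∀ c, (φ c, 0, c) ∈ D.pt n) (s : Fˣ) :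
    ∃ m ∈ D.N, ∀ c, (φ (↑(s * s) * c), 0, c) ∈ D.pt m := by
  refine ⟨D.d s⁻¹ * n, mul_mem (h.d_mem_N _) hn, fun c => ?_⟩
  rw [h.pt_mul hn]
  refine ⟨_, hφ (↑(s * s) * c), ?_⟩
  rw [h.cj_d]
  refine Prod.ext rfl (Prod.ext ?_ ?_)
  · simp
  · simp only [Units.val_mul]
    field_simp
    simp

theorem Cfg.card_sq : 2 * Nat.card (powMonoidHom 2 : Fˣ →* Fˣ).range + 1 = Nat.card F := by
  have h1 : Nat.card (powMonoidHom 2 : Fˣ →* Fˣ).ker = 2 := by
    have hne : (-1 : Fˣ) ≠ 1 := fun e => h.two_ne (by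
      have := congrArg (fun x : Fˣ => (x : F)) e
      simp only [Units.val_neg, Units.val_one] at this
      linear_combination -this)
    have : ((powMonoidHom 2 : Fˣ →* Fˣ).ker : Set Fˣ) = {1, -1} := by
      ext x
      simp only [SetLike.mem_coe, MonoidHom.mem_ker, powMonoidHom_apply, Set.mem_insert_iff,
        Set.mem_singleton_iff]
      constructor
      · intro e
        have e' : (x : F) * x = 1 := by rw [← Units.val_mul, ← sq, e, Units.val_one]
        rcases mul_self_eq_one_iff.1 e' with h2 | h2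
        · exact Or.inl (Units.ext h2)
        · exact Or.inr (Units.ext (by simpa using h2))
      · rintro (rfl | rfl) <;> simp
    rw [← SetLike.coe_sort_coe, this, Nat.card_coe_set_eq, Set.ncard_pair hne.symm]
  have h2 := (powMonoidHom 2 : Fˣ →* Fˣ).ker.card_mul_index
  rw [Subgroup.index_ker, h1, Nat.card_units] at h2
  have : 0 < Nat.card F := Nat.card_pos
  omega

theorem Cfg.graphs_split : ∃ ε j, ε ≤ 1 ∧
    Nat.card D.Graphs = ε + j * Nat.card (powMonoidHom 2 : Fˣ →* Fˣ).range := by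
  classical
  let E := {φ : D.Graphs // φ.1 ≠ 0}
  letI : MulAction (powMonoidHom 2 : Fˣ →* Fˣ).range E :=
    { smul := fun k φ => ⟨⟨fun c => φ.1.1 ((((k : Fˣ)) : F) * c), by
        obtain ⟨_, s, rfl⟩ := k
        obtain ⟨⟨ψ, n, hn, hψ⟩, -⟩ := φ
        simpa [sq] using h.graph_smul hn hψ s⟩, fun e => φ.2 (funext fun c => by
        have := congrFun e ((((k : Fˣ)⁻¹ : Fˣ) : F) * c)
        simpa [← mul_assoc] using this)⟩
      one_smul := fun φ => Subtype.ext (Subtype.ext (funext fun c => by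
        show φ.1.1 _ = φ.1.1 c
        simp))
      mul_smul := fun k k' φ => Subtype.ext (Subtype.ext (funext fun c => by
        show φ.1.1 _ = φ.1.1 _
        rw [mul_comm k k']
        simp [mul_assoc])) }
  have hfree : ∀ b : E, MulAction.stabilizer (powMonoidHom 2 : Fˣ →* Fˣ).range b = ⊥ := by
    rintro ⟨⟨φ, hφ'⟩, hφ0⟩
    rw [Subgroup.eq_bot_iff_forall]
    intro k hk
    obtain ⟨n, hn, hφ⟩ := hφ'
    by_contra hk1
    refine hφ0 (funext fun c => ?_)
    have hk' : ((k : Fˣ) : F) - 1 ≠ 0 := sub_ne_zero.2 fun e => hk1 (Subtype.ext (Units.ext e))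
    have e : ∀ x, φ (((k : Fˣ) : F) * x) = φ x := fun x =>
      congrFun (congrArg (fun b : E => b.1.1) (MulAction.mem_stabilizer_iff.1 hk)) x
    have h2 := h.graph_add hn hφ ((((k : Fˣ) : F) - 1) * (c / (((k : Fˣ) : F) - 1)))
      (c / (((k : Fˣ) : F) - 1))
    rw [← add_one_mul, sub_add_cancel, e, right_eq_add, mul_div_cancel₀ c hk'] at h2
    exact h2
  have hE := Nat.card_congr (MulAction.selfEquivOrbitsQuotientProd hfree)
  rw [Nat.card_prod] at hE
  refine ⟨Nat.card {φ : D.Graphs // ¬ φ.1 ≠ 0},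
    Nat.card (Quotient (MulAction.orbitRel (powMonoidHom 2 : Fˣ →* Fˣ).range E)), ?_, ?_⟩
  · rw [Finite.card_le_one_iff_subsingleton]
    exact ⟨fun a b => Subtype.ext (Subtype.ext ((not_not.1 a.2).trans (not_not.1 b.2).symm))⟩
  · rw [← hE, add_comm, ← Nat.card_sum]
    exact Nat.card_congr (Equiv.sumCompl fun φ : D.Graphs => φ.1 ≠ 0).symm

/-- Exactly one graph point. -/
theorem Cfg.card_graphs (hmove : ∃ n ∈ D.N, D.pt n ≠ D.pt 1) : Nat.card D.Graphs = 1 := by
  classical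
  obtain ⟨R, hR⟩ : ∃ R, R = h.ρ.range := ⟨_, rfl⟩
  let X := MulAction.orbit ↥h.ρ.range (D.pt 1)
  have hX : ∀ n : ↥D.N, D.pt n ∈ X := fun n => ⟨⟨h.ρ n, n, rfl⟩, by
    show h.ρ n • D.pt 1 = D.pt n
    rw [h.ρ_smul n _ (one_mem _), mul_one]⟩
  let g : Option (D.Graphs × F) → X := fun o => match o with
    | none => ⟨D.pt 1, hX 1⟩
    | some (φ, t) => ⟨D.pt (D.u t * φ.2.choose), hX ⟨_, mul_mem (h.u_mem_N t) φ.2.choose_spec.1⟩⟩
  have hne : ∀ (φ : D.Graphs) (t : F), D.pt (D.u t * φ.2.choose) ≠ D.pt 1 := fun φ t =>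
    h.ne_one_of_mem (h.translate_mem φ.2.choose_spec.1 φ.2.choose_spec.2 t) one_ne_zero
  have hg : Function.Bijective g := by
    refine ⟨?_, ?_⟩
    · rintro (_ | ⟨φ, t⟩) (_ | ⟨ψ, s⟩) e
      · rfl
      · exact absurd (congrArg Subtype.val e).symm (hne ψ s)
      · exact absurd (congrArg Subtype.val e) (hne φ t)
      · obtain ⟨rfl, e'⟩ := h.translate_eq φ.2.choose_spec.1 ψ.2.choose_spec.1 φ.2.choose_spec.2
          ψ.2.choose_spec.2 (congrArg Subtype.val e)
        rw [Subtype.ext e']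
    · rintro ⟨x, r, hr⟩
      obtain ⟨_, n, rfl⟩ := r
      have hx : x = D.pt n := by
        rw [← hr]
        show h.ρ n • D.pt 1 = D.pt n
        rw [h.ρ_smul n _ (one_mem _), mul_one]
      by_cases h1 : D.pt n = D.pt 1
      · exact ⟨none, Subtype.ext (show D.pt 1 = x from h1.symm.trans hx.symm)⟩
      obtain ⟨t, φ, hφ⟩ := h.exists_graph n.2 h1
      let Φ : D.Graphs := ⟨φ, _, mul_mem (h.u_mem_N t) n.2, hφ⟩
      refine ⟨some (Φ, -t), Subtype.ext ?_⟩
      show D.pt (D.u (-t) * Φ.2.choose) = x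
      have h2 := Φ.2.choose_spec
      rw [h.pt_mul h2.1, h.graph_eq h2.1 h2.2, ← h.graph_eq (mul_mem (h.u_mem_N t) n.2) hφ,
        ← h.pt_mul (mul_mem (h.u_mem_N t) n.2), hx, h.u_neg, inv_mul_cancel_left]
  obtain ⟨i, hi⟩ : ∃ i : ↥h.ρ.range, i = ⟨h.ρ ⟨D.ι, h.ι_mem⟩, _, rfl⟩ := ⟨_, rfl⟩
  have hismul : ∀ m (hm : m ∈ D.N) (hmX : D.pt m ∈ X),
      ((i • (⟨D.pt m, hmX⟩ : X) : X) : Set (F × F × F)) = D.cj D.ι '' D.pt m := fun m hm hmX => by
    subst hi
    rfl
  have hfix : ∀ (φ : D.Graphs) (t : F), i • g (some (φ, t)) = g (some (φ, t)) ↔ t = 0 := by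
    intro φ t
    have hmN : D.u t * φ.2.choose ∈ D.N := mul_mem (h.u_mem_N t) φ.2.choose_spec.1
    have hmem := h.translate_mem φ.2.choose_spec.1 φ.2.choose_spec.2 t
    rw [Subtype.ext_iff]
    show ((i • (⟨_, _⟩ : X) : X) : Set (F × F × F)) = D.pt (D.u t * φ.2.choose) ↔ _
    rw [hismul _ hmN]
    constructor
    · intro e
      have h3 := congrArg (fun x => x.2.1) (h.ι_fix hmN e _ hmem)
      simp only [h.cj_ι] at h3
      exact (mul_eq_zero.1 (by linear_combination -h3 : (2 : F) * t = 0)).resolve_left h.two_ne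
    · rintro rfl
      rw [h.u_zero, one_mul, h.graph_eq φ.2.choose_spec.1 φ.2.choose_spec.2, ← Set.range_comp]
      exact congrArg Set.range (funext fun c => by simp [h.cj_ι])
  have hnone : i • g none = g none := Subtype.ext (by
    show ((i • (⟨_, _⟩ : X) : X) : Set (F × F × F)) = D.pt 1
    rw [hismul _ (one_mem _), h.image_pt (one_mem _), mul_one]
    exact h.pt_eq_one h.ι_mem one_ne_zero (a' := 1) (by rw [h.cj_ι]; simp))
  let gf : Option D.Graphs → {x : X // i • x = x} := fun o => match o with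
    | none => ⟨g none, hnone⟩
    | some φ => ⟨g (some (φ, 0)), (hfix φ 0).2 rfl⟩
  have hgf : Function.Bijective gf := by
    refine ⟨?_, ?_⟩
    · rintro (_ | φ) (_ | ψ) e
      · rfl
      · exact absurd (hg.1 (a₁ := none) (a₂ := some (ψ, 0)) (congrArg Subtype.val e)) (by simp)
      · exact absurd (hg.1 (a₁ := some (φ, 0)) (a₂ := none) (congrArg Subtype.val e)) (by simp)
      · simpa using hg.1 (a₁ := some (φ, 0)) (a₂ := some (ψ, 0)) (congrArg Subtype.val e)
    · rintro ⟨x, hx⟩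
      obtain ⟨o | ⟨φ, t⟩, rfl⟩ := hg.2 x
      · exact ⟨none, rfl⟩
      · obtain rfl := (hfix φ t).1 hx
        exact ⟨some φ, rfl⟩
  have hcount := card_class_mul_card_fix (R := ↥h.ρ.range) (X := X)
    (fun x y => MulAction.exists_smul_eq ↥h.ρ.range x y) i ⟨D.pt 1, hX 1⟩
  have hclass : Nat.card {j : ↥h.ρ.range // IsConj i j ∧ j • (⟨D.pt 1, hX 1⟩ : X) = ⟨D.pt 1, hX 1⟩} =
      Nat.card F := by
    rw [← h.card_fix_class, hi]
    exact Nat.card_congr (Equiv.subtypeEquivRight fun j => and_congr_right' Subtype.ext_iff)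
  rw [hclass, ← Nat.card_congr (Equiv.ofBijective _ hgf), ← Nat.card_congr (Equiv.ofBijective _ hg),
    Finite.card_option, Finite.card_option, Nat.card_prod] at hcount
  obtain ⟨hprime, hchar⟩ := h.prime, h.charP
  have := Fintype.ofFinite F
  obtain ⟨⟨n, hn⟩, -, hq⟩ := FiniteField.card F p
  rw [← Nat.card_eq_fintype_card] at hq
  change Nat.card F = p ^ n at hq
  obtain ⟨k, hk⟩ := h.card_dvd_class n hq
  rw [← hi] at hk
  rw [hk, ← hq] at hcount
  have hq0 : 0 < Nat.card F := Nat.card_pos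
  have hm : (Nat.card D.Graphs + 1) * k = Nat.card D.Graphs * Nat.card F + 1 :=
    Nat.eq_of_mul_eq_mul_left hq0 (by rw [mul_comm (Nat.card F) (_ + 1), ← hcount]; ring)
  have hsq := h.card_sq
  have hd : Nat.card D.Graphs + 1 ∣ 2 * Nat.card (powMonoidHom 2 : Fˣ →* Fˣ).range := by
    have h4 := Nat.dvd_sub (dvd_mul_right (Nat.card D.Graphs + 1) (Nat.card F))
      (hm ▸ dvd_mul_right (Nat.card D.Graphs + 1) k)
    have e : (Nat.card D.Graphs + 1) * Nat.card F - (Nat.card D.Graphs * Nat.card F + 1) =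
        2 * Nat.card (powMonoidHom 2 : Fˣ →* Fˣ).range := by
      rw [add_one_mul]; omega
    rwa [e] at h4
  obtain ⟨ε, j, hε, hj⟩ := h.graphs_split
  refine exists_arith_one hsq.symm ?_ hε hj h.graphs_le ?_ hd
  · have := h.mod4
    omega
  · obtain ⟨m, hm, hm'⟩ := hmove
    obtain ⟨t, φ, hφ⟩ := h.exists_graph hm hm'
    have : Nonempty D.Graphs := ⟨⟨φ, _, mul_mem (h.u_mem_N t) hm, hφ⟩⟩
    exact Nat.card_pos

/-- The shape of the points: a linear graph and its translates. -/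
theorem Cfg.exists_base (hmove : ∃ n ∈ D.N, D.pt n ≠ D.pt 1) :
    ∃ (a₀ : F) (n₀ : G), n₀ ∈ D.N ∧ (∀ s : Fˣ, a₀ * (s * s) = a₀) ∧
      (∀ c, (a₀ * c, 0, c) ∈ D.pt n₀) ∧
      ∀ n ∈ D.N, D.pt n = D.pt 1 ∨ ∃ t, D.pt n = D.pt (D.u t * n₀) := by
  classical
  obtain ⟨hsub, ⟨Φ⟩⟩ := Nat.card_eq_one_iff_unique.1 (h.card_graphs hmove)
  obtain ⟨φ, n₀, hn₀, hφ⟩ := Φ
  have huniq : ∀ {ψ : F → F} {m : G}, m ∈ D.N → (∀ c, (ψ c, 0, c) ∈ D.pt m) → ψ = φ :=
    fun {ψ m} hm hψ => congrArg Subtype.val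
      (@Subsingleton.elim _ hsub (⟨ψ, m, hm, hψ⟩ : D.Graphs) ⟨φ, n₀, hn₀, hφ⟩)
  have hinv : ∀ (s : Fˣ) c, φ ((↑(s * s) : F) * c) = φ c := fun s c => by
    obtain ⟨m, hm, hψ⟩ := h.graph_smul hn₀ hφ s
    exact congrFun (huniq hm hψ) c
  have hadd := h.graph_add hn₀ hφ
  have h0 : φ 0 = 0 := by
    have := hadd 0 0
    rwa [add_zero, left_eq_add] at this
  have hlin : ∀ c, φ c = φ 1 * c := by
    intro c
    by_cases hall : ∀ s : Fˣ, s * s = 1
    · by_cases hc : c = 0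
      · subst hc
        rw [h0, mul_zero]
      rcases mul_self_eq_one_iff.1 (congrArg (fun x : Fˣ => (x : F)) (hall (Units.mk0 c hc))) with e | e
      · simp only [Units.val_mk0] at e
        subst e
        rw [mul_one]
      · simp only [Units.val_mk0] at e
        subst e
        have := hadd (-1) 1
        rw [neg_add_cancel, h0] at this
        linear_combination -this
    · push Not at hall
      obtain ⟨s, hs⟩ := hall
      have hz : ∀ x, φ x = 0 := fun x => by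
        have hk : (↑(s * s) : F) - 1 ≠ 0 := sub_ne_zero.2 fun e => hs (Units.ext (by simpa using e))
        have h2 := hadd (((↑(s * s) : F) - 1) * (x / ((↑(s * s) : F) - 1))) (x / ((↑(s * s) : F) - 1))
        rw [← add_one_mul, sub_add_cancel, hinv, right_eq_add, mul_div_cancel₀ x hk] at h2
        exact h2
      rw [hz, hz, zero_mul]
  refine ⟨φ 1, n₀, hn₀, fun s => ?_, fun c => hlin c ▸ hφ c, fun n hn => ?_⟩
  · have := hinv s 1
    rw [mul_one, hlin] at this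
    simpa using this
  · by_cases h1 : D.pt n = D.pt 1
    · exact Or.inl h1
    obtain ⟨t, ψ, hψ⟩ := h.exists_graph hn h1
    obtain rfl := huniq (mul_mem (h.u_mem_N t) hn) hψ
    refine Or.inr ⟨-t, ?_⟩
    rw [h.pt_mul hn₀, h.graph_eq hn₀ hφ, ← h.graph_eq (mul_mem (h.u_mem_N t) hn) hψ,
      ← h.pt_mul (mul_mem (h.u_mem_N t) hn), h.u_neg, inv_mul_cancel_left]

end CfsgLib.Recog.SpFourP
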