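import Cfsg.Agent.Lib.Recog.SpFourP.Basic

/-!
The points: every point other than the first has exactly one element with last coordinate one.
-/

set_option autoImplicit false
set_option linter.unusedSectionVars false

namespace CfsgLib.Recog.SpFourP

open Subgroup

variable {G : Type*} [Group G] [Finite G] {F : Type*} [Field F] [Finite F]
  {D : Data G F} {p : ℕ} (h : Cfg D p)
include h

theorem Cfg.charP : CharP F p := by
  obtain ⟨r, hr⟩ := CharP.exists F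
  have hd : r ∣ p := (CharP.cast_eq_zero_iff F r p).1 h.charp
  rcases (Nat.dvd_prime h.prime).1 hd with rfl | rfl
  · exact absurd rfl (@CharP.char_ne_one F _ _ 1 hr)
  · exact hr

theorem Cfg.two_ne : (2 : F) ≠ 0 := by
  have := h.charP
  intro e
  have h2 : ((2 : ℕ) : F) = 0 := by exact_mod_cast e
  exact h.odd ((Nat.prime_dvd_prime_iff_eq h.prime Nat.prime_two).1 ((CharP.cast_eq_zero_iff F p 2).1 h2))

/-- The involution of the torus. -/
def Data.ι (D : Data G F) : G := D.d (-1)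

theorem Cfg.ι_mem : D.ι ∈ D.N := h.d_mem_N _

theorem Cfg.cj_ι (a b c : F) : D.cj D.ι (a, b, c) = (a, -b, c) := by
  rw [Data.ι, h.cj_d]; simp

theorem Cfg.mud_mul (x x' : F × F × F) (t t' : F) (s s' : Fˣ) : ∃ x'' t'',
    D.μ x * D.u t * D.d s * (D.μ x' * D.u t' * D.d s') = D.μ x'' * D.u t'' * D.d (s * s') := by
  obtain ⟨a, b, c⟩ := x'
  refine ⟨x + (a + 2 * t * (s * b) + t * t * (s * s * c), s * b + t * (s * s * c), s * s * c),
    t + t' * ↑s⁻¹, ?_⟩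
  rw [h.μ_add, h.u_add, h.d_mul]
  calc D.μ x * D.u t * D.d s * (D.μ (a, b, c) * D.u t' * D.d s')
      = D.μ x * D.u t * (D.d s * D.μ (a, b, c)) * D.u t' * D.d s' := by group
    _ = D.μ x * (D.u t * D.μ (a, s * b, s * s * c)) * (D.d s * D.u t') * D.d s' := by
      rw [h.μd]; group
    _ = _ := by rw [h.μu, h.ud]; group

theorem Cfg.mud_pow (x : F × F × F) (t : F) (s : Fˣ) (k : ℕ) : ∃ x' t',
    (D.μ x * D.u t * D.d s) ^ k = D.μ x' * D.u t' * D.d (s ^ k) := by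
  induction k with
  | zero => exact ⟨0, 0, by rw [pow_zero, pow_zero, h.μ_zero, h.u_zero, h.d_one, one_mul, one_mul]⟩
  | succ k ih =>
    obtain ⟨x', t', e⟩ := ih
    obtain ⟨x'', t'', e'⟩ := h.mud_mul x' x t' t (s ^ k) s
    exact ⟨x'', t'', by rw [pow_succ, e, e', pow_succ]⟩

/-- `p`-elements of `C` normalising `M` lie in the Sylow subgroup. -/
theorem Cfg.pelem {g : G} (hgC : g ∈ D.C) (hg : g ∈ D.N) {k : ℕ} (hk : g ^ p ^ k = 1) :
    ∃ x t, g = D.μ x * D.u t := by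
  obtain ⟨x, t, s, rfl⟩ := h.normC g hgC hg
  obtain ⟨x', t', e⟩ := h.mud_pow x t s (p ^ k)
  rw [hk, eq_comm] at e
  have hs : (s : F) ^ p ^ k = 1 := by
    rw [← Units.val_pow_eq_pow_val, (h.eq_one _ _ _ e).2.2, Units.val_one]
  have := h.charP
  have : Fact p.Prime := ⟨h.prime⟩
  have h1 : ((s : F) - 1) ^ p ^ k = 0 := by rw [sub_pow_char_pow, hs, one_pow, sub_self]
  have h2 : s = 1 := Units.ext (sub_eq_zero.1 (pow_eq_zero_iff (pow_ne_zero k h.prime.ne_zero) |>.1 h1))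
  subst h2
  exact ⟨x, t, by rw [h.d_one, mul_one]⟩

theorem Cfg.u_pow_p (t : F) : D.u t ^ p = 1 := by
  have : ∀ k : ℕ, D.u t ^ k = D.u (k * t) := by
    intro k
    induction k with
    | zero => rw [pow_zero, Nat.cast_zero, zero_mul, h.u_zero]
    | succ k ih => rw [pow_succ, ih, ← h.u_add, Nat.cast_succ, add_mul, one_mul]
  rw [this, h.charp, zero_mul, h.u_zero]

theorem Cfg.image_pt {g n : G} (hn : n ∈ D.N) : D.cj g '' D.pt n = D.pt (g * n) := (h.pt_mul hn).symm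

/-- Only the first point is fixed by a nontrivial root element. -/
theorem Cfg.eq_one_of_u_fix {n : G} (hn : n ∈ D.N) {t : F} (ht : t ≠ 0)
    (e : D.cj (D.u t) '' D.pt n = D.pt n) : D.pt n = D.pt 1 := by
  classical
  have : Fact p.Prime := ⟨h.prime⟩
  obtain ⟨g, hgdef⟩ : ∃ g, g = n⁻¹ * D.u t * n := ⟨_, rfl⟩
  have hgN : g ∈ D.N := hgdef ▸ mul_mem (mul_mem (inv_mem hn) (h.u_mem_N t)) hn
  have hpt : D.pt g = D.pt 1 := by
    rw [hgdef, mul_assoc, h.pt_mul (mul_mem (h.u_mem_N t) hn), ← h.image_pt hn, e,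
      h.image_pt hn, inv_mul_cancel]
  obtain ⟨a', ha'⟩ : ∃ a', D.cj g (1, 0, 0) = (a', 0, 0) := by
    have : D.cj g (1, 0, 0) ∈ D.pt 1 := hpt ▸ ⟨1, rfl⟩
    exact ⟨_, Prod.ext rfl (h.mem_pt_one.1 this)⟩
  obtain ⟨P, hP⟩ := h.psyl
  have hgP : ∀ y ∈ (P : Subgroup G), g * y * g⁻¹ ∈ (P : Subgroup G) := by
    intro y hy
    obtain ⟨x, t', rfl⟩ := (hP y).1 hy
    have hyC : D.μ x * D.u t' ∈ D.C := mul_mem (h.μ_mem_C _) (h.u_mem_C _)
    have hyN : D.μ x * D.u t' ∈ D.N := mul_mem (h.μ_mem_N _) (h.u_mem_N _)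
    obtain ⟨k, hk⟩ := P.2 ⟨_, hy⟩
    have hk' : (D.μ x * D.u t') ^ p ^ k = 1 := congrArg Subtype.val hk
    have hk'' : (g * (D.μ x * D.u t') * g⁻¹) ^ p ^ k = 1 := by
      rw [conj_pow, hk', mul_one, mul_inv_cancel]
    obtain ⟨x', t'', e'⟩ := h.pelem (h.conj_C hgN one_ne_zero ha' _ hyC)
      (mul_mem (mul_mem hgN hyN) (inv_mem hgN)) hk''
    exact (hP _).2 ⟨x', t'', e'⟩
  have hgnorm : g ∈ Subgroup.normalizer ((P : Subgroup G) : Set G) :=
    Subgroup.mem_normalizer_fintype (fun y hy => hgP y hy)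
  have hgp : g ^ p = 1 := by
    rw [hgdef, show n⁻¹ * D.u t * n = n⁻¹ * D.u t * n⁻¹⁻¹ by rw [inv_inv], conj_pow, h.u_pow_p,
      mul_one, mul_inv_cancel]
  have hZ : IsPGroup p (Subgroup.zpowers g) := by
    refine IsPGroup.iff_card.2 ?_
    rw [Nat.card_zpowers]
    rcases (Nat.dvd_prime h.prime).1 (orderOf_dvd_of_pow_eq_one hgp) with e' | e'
    · exact ⟨0, by rw [e', pow_zero]⟩
    · exact ⟨1, by rw [e', pow_one]⟩
  have hsup := hZ.to_sup_of_normal_right' P.2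
    ((Subgroup.zpowers_le).2 hgnorm)
  have hgmem : g ∈ (P : Subgroup G) := by
    rw [← P.3 hsup le_sup_right]
    exact Subgroup.mem_sup_left (Subgroup.mem_zpowers g)
  obtain ⟨x, t', hxt⟩ := (hP g).1 hgmem
  have hgC : g ∈ D.C := hxt ▸ mul_mem (h.μ_mem_C _) (h.u_mem_C _)
  refine Set.Subset.antisymm ?_ ?_
  · rintro _ ⟨a, rfl⟩
    show D.cj n (a, 0, 0) ∈ D.pt 1
    rw [h.mem_pt_one]
    have hfix := h.fix_of_mem_C hgC hgN a
    rw [hgdef, h.cj_mul hn, h.cj_mul (h.u_mem_N t)] at hfix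
    have hfix' : D.cj (D.u t) (D.cj n (a, 0, 0)) = D.cj n (a, 0, 0) := by
      conv_rhs => rw [← hfix, h.cj_cj_inv hn]
    generalize D.cj n (a, 0, 0) = v at hfix' ⊢
    obtain ⟨a, b, c⟩ := v
    rw [h.cj_u, Prod.mk.injEq, Prod.mk.injEq] at hfix'
    have hc : c = 0 := by
      have : t * c = 0 := by linear_combination hfix'.2.1
      exact (mul_eq_zero.1 this).resolve_left ht
    subst hc
    have hb : 2 * t * b = 0 := by linear_combination hfix'.1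
    have hb' : b = 0 := (mul_eq_zero.1 hb).resolve_left (mul_ne_zero h.two_ne ht)
    rw [hb']; rfl
  · have h1 : (D.cj n (1, 0, 0)).2 = 0 := by
      have hfix := h.fix_of_mem_C hgC hgN 1
      rw [hgdef, h.cj_mul hn, h.cj_mul (h.u_mem_N t)] at hfix
      have hfix' : D.cj (D.u t) (D.cj n (1, 0, 0)) = D.cj n (1, 0, 0) := by
        conv_rhs => rw [← hfix, h.cj_cj_inv hn]
      generalize D.cj n (1, 0, 0) = v at hfix' ⊢
      obtain ⟨a, b, c⟩ := v
      rw [h.cj_u, Prod.mk.injEq, Prod.mk.injEq] at hfix'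
      have hc : c = 0 := by
        have : t * c = 0 := by linear_combination hfix'.2.1
        exact (mul_eq_zero.1 this).resolve_left ht
      subst hc
      have hb : 2 * t * b = 0 := by linear_combination hfix'.1
      have hb' : b = 0 := (mul_eq_zero.1 hb).resolve_left (mul_ne_zero h.two_ne ht)
      rw [hb']; rfl
    rw [h.pt_eq_one hn one_ne_zero (a' := (D.cj n (1, 0, 0)).1) (Prod.ext rfl h1)]

/-- The elements of the other points have nonzero last coordinate. -/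
theorem Cfg.third_ne_zero {n : G} (hn : n ∈ D.N) (hne : D.pt n ≠ D.pt 1) {v : F × F × F}
    (hv : v ∈ D.pt n) (hv0 : v ≠ 0) : v.2.2 ≠ 0 := by
  classical
  intro hc
  obtain ⟨a, b, c⟩ := v
  obtain rfl : c = 0 := hc
  have hb : b ≠ 0 := by
    rintro rfl
    exact hne (h.pt_eq_of_mem (one_mem _) hn hv0 (h.mem_pt_one.2 rfl) hv)
  have h2 := h.two_ne
  obtain ⟨m, hmdef⟩ : ∃ m, m = D.u (-a / (2 * b)) * n := ⟨_, rfl⟩
  have hmN : m ∈ D.N := hmdef ▸ mul_mem (h.u_mem_N _) hn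
  have hw : ((0 : F), b, (0 : F)) ∈ D.pt m := by
    rw [hmdef, h.pt_mul hn]
    refine ⟨(a, b, 0), hv, ?_⟩
    rw [h.cj_u]
    refine Prod.ext ?_ (Prod.ext ?_ rfl) <;> simp only <;> field_simp <;> ring
  have hw0 : ((0 : F), b, (0 : F)) ≠ 0 := fun e => hb (congrArg (fun x => x.2.1) e)
  have hιw : D.cj D.ι ((0 : F), b, (0 : F)) = -((0 : F), b, (0 : F)) := by
    rw [h.cj_ι]; simp
  have hιm : D.pt (D.ι * m) = D.pt m :=
    h.pt_eq_of_mem hmN (mul_mem h.ι_mem hmN) (neg_ne_zero.2 hw0) (h.pt_neg hmN hw)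
      (by rw [h.pt_mul hmN]; exact ⟨_, hw, hιw⟩)
  have hB : ∀ y ∈ D.pt m, y.1 = 0 ∧ y.2.2 = 0 := by
    rintro ⟨a1, b1, c1⟩ hy
    have hy' : D.cj D.ι (a1, b1, c1) ∈ D.pt m := hιm ▸ (h.pt_mul hmN).symm ▸ ⟨_, hy, rfl⟩
    have hs := h.pt_add hmN hy hy'
    rw [h.cj_ι] at hs
    have hs' : (a1 + a1, (0 : F), c1 + c1) ∈ D.pt m := by simpa using hs
    by_contra hcon
    have hs0 : (a1 + a1, (0 : F), c1 + c1) ≠ 0 := by
      intro e
      rw [Prod.mk_eq_zero, Prod.mk_eq_zero, ← two_mul, ← two_mul, mul_eq_zero, mul_eq_zero] at e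
      exact hcon ⟨e.1.resolve_left h2, e.2.2.resolve_left h2⟩
    have := h.fix_pt h.ι_mem hmN hs0 hs' (by rw [h.cj_ι]; simp) _ hw
    rw [hιw, neg_eq_iff_add_eq_zero, Prod.mk_add_mk, Prod.mk_add_mk] at this
    rw [Prod.mk_eq_zero, Prod.mk_eq_zero, ← two_mul, ← two_mul, mul_eq_zero, mul_eq_zero] at this
    exact hb ((this.2.1).resolve_left h2)
  refine h.fus fun y hy => ?_
  obtain ⟨b1, hb1⟩ : ∃ b1, D.cj m (1, 0, 0) = (0, b1, 0) :=
    ⟨_, Prod.ext (hB _ ⟨1, rfl⟩).1 (Prod.ext rfl (hB _ ⟨1, rfl⟩).2)⟩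
  obtain ⟨b2, hb2⟩ : ∃ b2, D.cj m (y, 0, 0) = (0, b2, 0) :=
    ⟨_, Prod.ext (hB _ ⟨y, rfl⟩).1 (Prod.ext rfl (hB _ ⟨y, rfl⟩).2)⟩
  have hne1 : ∀ {x z : F}, x ≠ 0 → D.cj m (x, 0, 0) = (0, z, 0) → z ≠ 0 := by
    rintro x z hx e rfl
    exact hx (congrArg Prod.fst (h.cj_inj hmN (e.trans (h.cj_zero hmN).symm) : (x, 0, 0) = (0 : F × F × F)))
  obtain ⟨g, hgdef⟩ : ∃ g, g = m⁻¹ *
      D.d (Units.mk0 b2 (hne1 hy hb2) * (Units.mk0 b1 (hne1 one_ne_zero hb1))⁻¹) * m := ⟨_, rfl⟩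
  have hgN : g ∈ D.N := hgdef ▸ mul_mem (mul_mem (inv_mem hmN) (h.d_mem_N _)) hmN
  refine ⟨g, ?_⟩
  rw [← h.μ_cj hgN]
  congr 1
  rw [hgdef, h.cj_mul hmN, h.cj_mul (h.d_mem_N _), hb1, h.cj_d, ← h.cj_inv_cj hmN (y, 0, 0), hb2]
  congr 1
  have hb10 : b1 ≠ 0 := hne1 one_ne_zero hb1
  simp [hb10]

theorem Cfg.exists_one {n : G} (hn : n ∈ D.N) (hne : D.pt n ≠ D.pt 1) :
    ∃ v ∈ D.pt n, v.2.2 = 1 := by
  have hinj : Function.Injective fun a : F => (D.cj n (a, 0, 0)).2.2 := by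
    intro a a' e
    by_contra hd
    have hmem : D.cj n (a - a', 0, 0) ∈ D.pt n := ⟨_, rfl⟩
    have h0 : D.cj n (a - a', 0, 0) ≠ 0 := by
      intro e'
      exact sub_ne_zero.2 hd (congrArg Prod.fst (h.cj_inj hn (e'.trans (h.cj_zero hn).symm) :
        (a - a', 0, 0) = (0 : F × F × F)))
    refine h.third_ne_zero hn hne hmem h0 ?_
    have := h.cj_add hn (a - a', 0, 0) (a', 0, 0)
    simp only [Prod.mk_add_mk, sub_add_cancel, add_zero] at this
    have h3 := congrArg (fun x => x.2.2) this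
    simp only [Prod.snd_add] at h3
    linear_combination -h3 + e
  obtain ⟨a, ha⟩ := Finite.surjective_of_injective hinj 1
  exact ⟨_, ⟨a, rfl⟩, ha⟩

theorem Cfg.unique_one {n : G} (hn : n ∈ D.N) (hne : D.pt n ≠ D.pt 1) {v w : F × F × F}
    (hv : v ∈ D.pt n) (hw : w ∈ D.pt n) (h1 : v.2.2 = w.2.2) : v = w := by
  by_contra hd
  have := h.third_ne_zero hn hne (h.pt_add hn hv (h.pt_neg hn hw)) (by
    rwa [← sub_eq_add_neg, sub_ne_zero])
  exact this (by simp [h1])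

theorem Cfg.ne_one_of_mem {n : G} {v : F × F × F} (hv : v ∈ D.pt n) (hc : v.2.2 ≠ 0) :
    D.pt n ≠ D.pt 1 := fun e => hc (by
  have := h.mem_pt_one.1 (e ▸ hv)
  rw [this]; rfl)

/-- The involution fixes a point exactly when it fixes it pointwise. -/
theorem Cfg.ι_fix {n : G} (hn : n ∈ D.N) (e : D.cj D.ι '' D.pt n = D.pt n) :
    ∀ y ∈ D.pt n, D.cj D.ι y = y := by
  by_cases hne : D.pt n = D.pt 1
  · intro y hy
    rw [hne, h.mem_pt_one] at hy
    obtain ⟨a, b, c⟩ := y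
    simp only [Prod.mk_eq_zero] at hy
    rw [h.cj_ι, hy.1, neg_zero]
  · obtain ⟨v, hv, hv1⟩ := h.exists_one hn hne
    have hv' : D.cj D.ι v ∈ D.pt n := e ▸ ⟨v, hv, rfl⟩
    obtain ⟨a, b, c⟩ := v
    have := h.unique_one hn hne hv' hv (by rw [h.cj_ι])
    refine h.fix_pt h.ι_mem hn (fun e' => ?_) hv this
    rw [e'] at hv1
    exact one_ne_zero hv1.symm

end CfsgLib.Recog.SpFourP
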