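import Cfsg.Agent.Lib.Recog.SpFourP.Model
import Cfsg.Agent.Lib.Recog.SpFourP.Final

/-!
From the abstract hypotheses to a configuration.
-/

set_option autoImplicit false
set_option linter.unusedSectionVars false
set_option maxHeartbeats 1000000

namespace CfsgLib.Recog.SpFourP

open Subgroup
open scoped Pointwise

variable {F : Type*} [Field F] [Fintype F]

variable (F) in
/-- The standard Sylow subgroup. -/
noncomputable def pstd : Subgroup (Cfsg.PSp 2 F) where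
  carrier := {g | ∃ x t, g = μ₀ x * u₀ t}
  one_mem' := ⟨0, 0, by rw [μ₀_zero, u₀_zero, one_mul]⟩
  mul_mem' := by
    rintro _ _ ⟨x, t, rfl⟩ ⟨⟨a, b, c⟩, t', rfl⟩
    refine ⟨x + (a + 2 * t * b + t * t * c, b + t * c, c), t + t', ?_⟩
    calc μ₀ x * u₀ t * (μ₀ (a, b, c) * u₀ t') = μ₀ x * (u₀ t * μ₀ (a, b, c)) * u₀ t' := by group
      _ = _ := by rw [μu₀, μ₀_add, u₀_add]; group
  inv_mem' := by
    rintro _ ⟨⟨a, b, c⟩, t, rfl⟩
    refine ⟨(-a + 2 * -t * -b + -t * -t * -c, -b + -t * -c, -c), -t, ?_⟩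
    rw [← μu₀, inv_eq_of_mul_eq_one_right]
    rw [mul_assoc, ← mul_assoc (u₀ t), ← u₀_add, add_neg_cancel, u₀_zero, one_mul, ← μ₀_add]
    refine (congrArg μ₀ ?_).trans μ₀_zero
    simp

theorem card_pstd (h2 : (2 : F) ≠ 0) : Nat.card (pstd F) = Nat.card F ^ 4 := by
  let f : (F × F × F) × F → pstd F := fun v => ⟨μ₀ v.1 * u₀ v.2, v.1, v.2, rfl⟩
  have hf : Function.Bijective f := by
    refine ⟨?_, ?_⟩
    · rintro ⟨x, t⟩ ⟨y, s⟩ e
      have e' : μ₀ x * u₀ t = μ₀ y * u₀ s := congrArg Subtype.val e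
      have h1 : μ₀ (-y + x) * u₀ (t + -s) * d₀ 1 = 1 := by
        have hd : d₀ (1 : Fˣ) = 1 := by
          have := d₀_mul (1 : Fˣ) 1
          rwa [mul_one, eq_comm, mul_eq_left] at this
        rw [hd, mul_one, μ₀_add, u₀_add, mul_assoc, ← mul_assoc (μ₀ x), e', mul_assoc, ← u₀_add,
          add_neg_cancel, u₀_zero, mul_one, ← μ₀_add, neg_add_cancel, μ₀_zero]
      obtain ⟨hx, ht, -⟩ := eq_one₀ h2 _ _ _ h1
      exact Prod.ext (by rw [neg_add_eq_zero] at hx; exact hx.symm) (add_neg_eq_zero.1 ht)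
    · rintro ⟨_, x, t, rfl⟩
      exact ⟨(x, t), rfl⟩
  rw [← Nat.card_congr (Equiv.ofBijective f hf), Nat.card_prod, Nat.card_prod, Nat.card_prod]
  ring

theorem factorization_psp (h2 : (2 : F) ≠ 0) (p n : ℕ) [Fact p.Prime] (hp : p ≠ 2)
    (hF : Fintype.card F = p ^ n) : (Nat.card (Cfsg.PSp 2 F)).factorization p = n * 4 := by
  have h1 := CfsgLib.KnownA.SpSiegel.sp_val_p (m := 2) (F := F) p n hF
  have h3 := Subgroup.card_eq_card_quotient_mul_card_subgroup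
    (Subgroup.center (Matrix.symplecticGroup (Fin 2) F))
  have hc : Nat.card (Subgroup.center (Matrix.symplecticGroup (Fin 2) F)) = 2 := by
    have : (Subgroup.center (Matrix.symplecticGroup (Fin 2) F) : Set (Matrix.symplecticGroup (Fin 2) F)) =
        {1, CfsgLib.Geom.spNeg 2 F} := by
      ext g
      simp only [SetLike.mem_coe, Set.mem_insert_iff, Set.mem_singleton_iff]
      constructor
      · intro hg
        have e : QuotientGroup.mk' (Subgroup.center (Matrix.symplecticGroup (Fin 2) F)) g =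
            QuotientGroup.mk' (Subgroup.center (Matrix.symplecticGroup (Fin 2) F)) 1 := by
          rw [map_one, QuotientGroup.mk'_apply]
          exact (QuotientGroup.eq_one_iff _).2 hg
        rcases eq_or_neg e with h | h
        · exact Or.inl h
        · exact Or.inr (by rwa [mul_one] at h)
      · rintro (rfl | rfl)
        · exact one_mem _
        · exact CfsgLib.Geom.spNeg_mem_center
    rw [← SetLike.coe_sort_coe, this, Nat.card_coe_set_eq, Set.ncard_pair (spNeg_ne_one h2).symm]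
  rw [h3, hc, Nat.factorization_mul Nat.card_pos.ne' two_ne_zero, Finsupp.add_apply,
    Nat.factorization_eq_zero_of_not_dvd (n := 2) (p := p)
      (fun hd => hp ((Nat.prime_dvd_prime_iff_eq Fact.out Nat.prime_two).1 hd)), add_zero] at h1
  simpa using h1

variable {G : Type*} [Group G] [Finite G]

theorem exists_cfg (p n : ℕ) [hpF : Fact p.Prime] (hp : p ≠ 2) (hn : 1 ≤ n) (hq4 : p ^ n % 4 = 3)
    (hF : Fintype.card F = p ^ n)
    (x : Cfsg.PSp 2 F) (hx : orderOf x = p) (Px : Sylow p (Cfsg.PSp 2 F))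
    (hxP : x ∈ (Px : Subgroup (Cfsg.PSp 2 F)))
    (hxc : ∀ y ∈ (Px : Subgroup (Cfsg.PSp 2 F)), y * x = x * y)
    (α : G) (hα : orderOf α = p)
    (e : ↥(Subgroup.centralizer ({α} : Set G)) ≃* ↥(Subgroup.centralizer ({x} : Set (Cfsg.PSp 2 F))))
    (hb : ∀ z ∈ Subgroup.centralizer ({α} : Set G), z ≠ 1 →
      (∀ c ∈ Subgroup.centralizer ({α} : Set G), c * z = z * c) →
      Subgroup.centralizer ({z} : Set G) = Subgroup.centralizer ({α} : Set G))
    (hc : ∃ (u v : G) (Pu Pv : Sylow p G), orderOf u = p ∧ orderOf v = p ∧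
      u ∈ (Pu : Subgroup G) ∧ (∀ y ∈ (Pu : Subgroup G), y * u = u * y) ∧
      v ∈ (Pv : Subgroup G) ∧ (∀ y ∈ (Pv : Subgroup G), y * v = v * y) ∧ ∀ g : G, g * u * g⁻¹ ≠ v)
    (P : Sylow p G) (hP : (P : Subgroup G) ≤ Subgroup.centralizer ({α} : Set G))
    (M : Subgroup G) (hMP : M ≤ P) (hMc : IsMulCommutative ↥M)
    (hMcard : Nat.card ↥M = p ^ (3 * n)) :
    ∃ D : Data G F, Cfg D p ∧ D.M = M := by
  classical
  have hp0 : (p : F) = 0 := by
    have := Nat.cast_card_eq_zero F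
    rw [hF, Nat.cast_pow, pow_eq_zero_iff (by omega)] at this
    exact this
  have h2 : (2 : F) ≠ 0 := by
    intro e2
    obtain ⟨k, hk⟩ := (hpF.out.odd_of_ne_two hp)
    rw [hk, Nat.cast_add, Nat.cast_mul, Nat.cast_one, Nat.cast_ofNat, e2, zero_mul, zero_add] at hp0
    exact one_ne_zero hp0
  have hodd : Odd p := hpF.out.odd_of_ne_two hp
  have hqc : Nat.card F = p ^ n := by rw [Nat.card_eq_fintype_card, hF]
  let Pstd : Sylow p (Cfsg.PSp 2 F) := Sylow.ofCard (pstd F) (by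
    rw [card_pstd h2, factorization_psp h2 p n hp hF, hqc, ← pow_mul])
  have hPstd : ∀ g, g ∈ (Pstd : Subgroup (Cfsg.PSp 2 F)) ↔ ∃ y t, g = μ₀ y * u₀ t := fun g => Iff.rfl
  have hcentral : ∀ g ∈ (Pstd : Subgroup (Cfsg.PSp 2 F)),
      (∀ y ∈ (Pstd : Subgroup (Cfsg.PSp 2 F)), y * g = g * y) → ∃ a, g = μ₀ (a, 0, 0) := by
    intro g _ hg
    exact eq_μ₀_of_commute h2 hp0 hodd (fun y => (hg _ ((hPstd _).2 ⟨y, 0, by rw [u₀_zero, mul_one]⟩)).symm)
      (hg _ ((hPstd _).2 ⟨0, 1, by rw [μ₀_zero, one_mul]⟩)).symm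
  -- the central element is a root element
  obtain ⟨k, hk⟩ := MulAction.exists_smul_eq (Cfsg.PSp 2 F) Px Pstd
  have hkm : ∀ g, g ∈ (Px : Subgroup (Cfsg.PSp 2 F)) → k * g * k⁻¹ ∈ (Pstd : Subgroup (Cfsg.PSp 2 F)) := by
    intro g hg
    rw [← hk, Sylow.coe_subgroup_smul]
    exact ⟨g, hg, rfl⟩
  obtain ⟨a, ha⟩ := hcentral _ (hkm x hxP) fun y hy => by
    rw [← hk, Sylow.coe_subgroup_smul] at hy
    obtain ⟨g, hg, rfl⟩ := hy
    show k * g * k⁻¹ * (k * x * k⁻¹) = k * x * k⁻¹ * (k * g * k⁻¹)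
    calc k * g * k⁻¹ * (k * x * k⁻¹) = k * (g * x) * k⁻¹ := by group
      _ = k * (x * g) * k⁻¹ := by rw [hxc g hg]
      _ = _ := by group
  have ha0 : a ≠ 0 := by
    rintro rfl
    rw [show ((0 : F), (0 : F), (0 : F)) = 0 from rfl, μ₀_zero, mul_inv_eq_one, mul_eq_left] at ha
    rw [ha, orderOf_one] at hx
    exact hpF.out.ne_one hx.symm
  obtain ⟨C₀, hC₀⟩ : ∃ C₀, C₀ = Subgroup.centralizer ({μ₀ (1, 0, 0)} : Set (Cfsg.PSp 2 F)) := ⟨_, rfl⟩
  have hC : (Subgroup.centralizer ({x} : Set (Cfsg.PSp 2 F))).map (MulAut.conj k).toMonoidHom = C₀ := by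
    rw [hC₀, ← cent₀ h2 hp0 hodd ha0, ← ha]
    ext g
    rw [Subgroup.mem_map_equiv]
    simp only [Subgroup.mem_centralizer_singleton_iff, MulAut.conj_symm_apply]
    constructor
    · intro hg
      calc g * (k * x * k⁻¹) = k * (k⁻¹ * g * k * x) * k⁻¹ := by group
        _ = k * (x * (k⁻¹ * g * k)) * k⁻¹ := by rw [hg]
        _ = _ := by group
    · intro hg
      calc k⁻¹ * g * k * x = k⁻¹ * (g * (k * x * k⁻¹)) * k := by group
        _ = k⁻¹ * (k * x * k⁻¹ * g) * k := by rw [hg]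
        _ = _ := by group
  let ε₀ : ↥(Subgroup.centralizer ({α} : Set G)) ≃* ↥C₀ :=
    (e.trans ((MulAut.conj k).subgroupMap _)).trans (MulEquiv.subgroupCongr hC)
  have hPC : (Pstd : Subgroup (Cfsg.PSp 2 F)) ≤ C₀ := by
    rintro g hg
    obtain ⟨⟨y1, y2, y3⟩, t, rfl⟩ := (hPstd g).1 hg
    rw [hC₀]
    refine mul_mem (Subgroup.mem_centralizer_singleton_iff.2 (μ₀_comm _ _))
      (Subgroup.mem_centralizer_singleton_iff.2 ?_)
    rw [μu₀]
    congr 2
    simp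
  let PG : Sylow p ↥(Subgroup.centralizer ({α} : Set G)) := P.subtype hP
  let PC : Sylow p ↥C₀ := PG.mapSurjective (f := ε₀.toMonoidHom) ε₀.surjective
  obtain ⟨c, hcc⟩ := MulAction.exists_smul_eq ↥C₀ PC (Pstd.subtype hPC)
  let ε : ↥(Subgroup.centralizer ({α} : Set G)) ≃* ↥C₀ := ε₀.trans (MulAut.conj c)
  have hεP : ∀ g : ↥(Subgroup.centralizer ({α} : Set G)),
      (g : G) ∈ (P : Subgroup G) ↔ (ε g : Cfsg.PSp 2 F) ∈ (Pstd : Subgroup (Cfsg.PSp 2 F)) := by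
    intro g
    have h1 := congrArg (fun Q : Sylow p ↥C₀ => (ε g) ∈ (Q : Subgroup ↥C₀)) hcc
    simp only [Sylow.coe_subgroup_smul, Sylow.coe_subtype, Subgroup.mem_subgroupOf, eq_iff_iff] at h1
    rw [← h1]
    show _ ↔ MulAut.conj c (ε₀ g) ∈ MulAut.conj c • (PC : Subgroup ↥C₀)
    rw [← MulAut.smul_def, Subgroup.smul_mem_pointwise_smul_iff]
    show _ ↔ ε₀ g ∈ ((PG : Subgroup _)).map ε₀.toMonoidHom
    rw [Subgroup.mem_map_equiv, MulEquiv.symm_apply_apply, Sylow.coe_subtype, Subgroup.mem_subgroupOf]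
  have hμC : ∀ y, μ₀ y ∈ C₀ := fun y => by
    rw [hC₀]; exact Subgroup.mem_centralizer_singleton_iff.2 (μ₀_comm _ _)
  have huC : ∀ t, u₀ t ∈ C₀ := fun t => hPC ((hPstd _).2 ⟨0, t, by rw [μ₀_zero, one_mul]⟩)
  have hdC : ∀ s, d₀ s ∈ C₀ := fun s => by
    rw [hC₀]
    refine Subgroup.mem_centralizer_singleton_iff.2 ?_
    rw [μd₀]
    congr 2
    simp
  let ψ : ↥C₀ →* G := (Subgroup.centralizer ({α} : Set G)).subtype.comp ε.symm.toMonoidHom
  have hψ : Function.Injective ψ := fun y z h => ε.symm.injective (Subtype.ext h)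
  let D : Data G F := ⟨fun y => ψ ⟨μ₀ y, hμC y⟩, fun t => ψ ⟨u₀ t, huC t⟩, fun s => ψ ⟨d₀ s, hdC s⟩⟩
  have hψP : ∀ z : ↥C₀, ψ z ∈ (P : Subgroup G) ↔ (z : Cfsg.PSp 2 F) ∈ (Pstd : Subgroup (Cfsg.PSp 2 F)) := by
    intro z
    show ((ε.symm z : ↥(Subgroup.centralizer ({α} : Set G))) : G) ∈ _ ↔ _
    rw [hεP, MulEquiv.apply_symm_apply]
  have hψC : ∀ g ∈ Subgroup.centralizer ({α} : Set G), ∃ z : ↥C₀, g = ψ z := fun g hg =>
    ⟨ε ⟨g, hg⟩, by show g = ((ε.symm (ε ⟨g, hg⟩)) : G); rw [MulEquiv.symm_apply_apply]⟩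
  have hPmem : ∀ g, g ∈ (P : Subgroup G) ↔ ∃ y t, g = D.μ y * D.u t := by
    intro g
    constructor
    · intro hg
      obtain ⟨z, rfl⟩ := hψC g (hP hg)
      obtain ⟨y, t, hyt⟩ := (hPstd _).1 ((hψP z).1 hg)
      exact ⟨y, t, by rw [← map_mul]; exact congrArg ψ (Subtype.ext hyt)⟩
    · rintro ⟨y, t, rfl⟩
      rw [← map_mul, hψP]
      exact (hPstd _).2 ⟨y, t, rfl⟩
  have μadd : ∀ y z, D.μ (y + z) = D.μ y * D.μ z := fun y z => by
    rw [← map_mul]; exact congrArg ψ (Subtype.ext (μ₀_add y z))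
  -- `M` is the translation group
  have hMμ : (M : Set G) = Set.range D.μ := by
    have hcard : Nat.card (Set.range D.μ) = p ^ (3 * n) := by
      rw [Nat.card_range_of_injective fun y z h => ?_, Nat.card_prod, Nat.card_prod, hqc]
      · ring
      · have h1 : μ₀ y = μ₀ z := congrArg Subtype.val (hψ h)
        have h4 := eq_one₀ h2 (y + -z) 0 1
        rw [μ₀_add, h1, ← μ₀_add, add_neg_cancel, μ₀_zero, u₀_zero, one_mul, one_mul] at h4
        have hd : d₀ (1 : Fˣ) = 1 := by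
          have := d₀_mul (1 : Fˣ) 1
          rwa [mul_one, eq_comm, mul_eq_left] at this
        exact add_neg_eq_zero.1 (h4 hd).1
    have hsub : (M : Set G) ⊆ Set.range D.μ := by
      intro g hg
      obtain ⟨y₀, t₀, rfl⟩ := (hPmem g).1 (hMP hg)
      by_cases ht₀ : t₀ = 0
      · subst ht₀
        refine ⟨y₀, ?_⟩
        rw [show D.u 0 = ψ 1 from congrArg ψ (Subtype.ext u₀_zero), map_one, mul_one]
      exfalso
      have hkey : ∀ v, D.μ v ∈ M → v.2.1 = 0 ∧ v.2.2 = 0 := by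
        rintro ⟨v1, v2, v3⟩ hv
        have hcm : D.μ (v1, v2, v3) * (D.μ y₀ * D.u t₀) = D.μ y₀ * D.u t₀ * D.μ (v1, v2, v3) :=
          congrArg Subtype.val (hMc.is_comm.comm ⟨_, hv⟩ ⟨_, hg⟩)
        rw [← mul_assoc, ← μadd, add_comm, μadd, mul_assoc, mul_assoc, mul_right_inj, ← map_mul, ← map_mul] at hcm
        have h5 : μ₀ (v1, v2, v3) * u₀ t₀ = u₀ t₀ * μ₀ (v1, v2, v3) := congrArg Subtype.val (hψ hcm)
        rw [μu₀, mul_left_inj] at h5
        have h6 := eq_one₀ h2 ((v1, v2, v3) + -(v1 + 2 * t₀ * v2 + t₀ * t₀ * v3, v2 + t₀ * v3, v3)) 0 1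
        rw [μ₀_add, h5, ← μ₀_add, add_neg_cancel, μ₀_zero, u₀_zero, one_mul, one_mul] at h6
        have hd : d₀ (1 : Fˣ) = 1 := by
          have := d₀_mul (1 : Fˣ) 1
          rwa [mul_one, eq_comm, mul_eq_left] at this
        have h7 := (h6 hd).1
        simp only [Prod.neg_mk, Prod.mk_add_mk, Prod.mk_eq_zero] at h7
        have hv3 : v3 = 0 := (mul_eq_zero.1 (by linear_combination -h7.2.1 : t₀ * v3 = 0)).resolve_left ht₀
        subst hv3
        have hv2 : 2 * t₀ * v2 = 0 := by linear_combination -h7.1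
        exact ⟨(mul_eq_zero.1 hv2).resolve_left (mul_ne_zero h2 ht₀), rfl⟩
      have hrep : ∀ m : M, ∃ yt : (F × F × F) × F, (m : G) = D.μ yt.1 * D.u yt.2 := fun m => by
        obtain ⟨y, t, h⟩ := (hPmem _).1 (hMP m.2)
        exact ⟨(y, t), h⟩
      choose r hr using hrep
      have hinj : Function.Injective fun m : M => ((r m).1.1, (r m).2) := by
        intro m m' h
        simp only [Prod.mk.injEq] at h
        have hdiff : D.μ ((r m).1 + -(r m').1) ∈ M := by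
          have h8 : (m : G) * (m' : G)⁻¹ = D.μ ((r m).1 + -(r m').1) := by
            rw [μadd, hr m, hr m', h.2, mul_inv_rev, mul_assoc, ← mul_assoc (D.u _), mul_inv_cancel, one_mul]
            congr 1
            refine inv_eq_of_mul_eq_one_right ?_
            rw [← μadd, add_neg_cancel]
            exact (congrArg ψ (Subtype.ext μ₀_zero)).trans (map_one ψ)
          exact h8 ▸ mul_mem m.2 (inv_mem m'.2)
        obtain ⟨h9, h10⟩ := hkey _ hdiff
        have h11 : (r m).1 = (r m').1 := by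
          refine Prod.ext h.1 (Prod.ext ?_ ?_)
          · exact eq_of_sub_eq_zero ((sub_eq_add_neg _ _).trans h9)
          · exact eq_of_sub_eq_zero ((sub_eq_add_neg _ _).trans h10)
        exact Subtype.ext (by rw [hr m, hr m', h11, h.2])
      have hle := Nat.card_le_card_of_injective _ hinj
      rw [hMcard, Nat.card_prod, hqc, ← pow_add] at hle
      have := Nat.pow_le_pow_iff_right hpF.out.one_lt |>.1 hle
      omega
    refine Set.eq_of_subset_of_ncard_le hsub ?_ (Set.toFinite _)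
    rw [← Nat.card_coe_set_eq, ← Nat.card_coe_set_eq, hcard]
    exact hMcard.ge
  have hDM : D.M = M := by
    rw [Data.M, ← hMμ, Subgroup.closure_eq]
  have hμP : ∀ y, D.μ y ∈ (P : Subgroup G) := fun y => hMP (show D.μ y ∈ (M : Set G) from hMμ ▸ ⟨y, rfl⟩)
  have hcentre : ∀ a : F, ∀ g ∈ Subgroup.centralizer ({α} : Set G),
      g * D.μ (a, 0, 0) = D.μ (a, 0, 0) * g := by
    intro a g hg
    obtain ⟨⟨z, hz⟩, rfl⟩ := hψC g hg
    rw [← map_mul, ← map_mul]
    refine congrArg ψ (Subtype.ext ?_)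
    show z * μ₀ (a, 0, 0) = μ₀ (a, 0, 0) * z
    by_cases ha' : a = 0
    · subst ha'
      rw [show ((0 : F), (0 : F), (0 : F)) = 0 from rfl, μ₀_zero, mul_one, one_mul]
    · rw [hC₀, ← cent₀ h2 hp0 hodd ha', Subgroup.mem_centralizer_singleton_iff] at hz
      exact hz
  have hcentα : ∀ a : F, a ≠ 0 →
      Subgroup.centralizer ({D.μ (a, 0, 0)} : Set G) = Subgroup.centralizer ({α} : Set G) := by
    intro a ha'
    refine hb _ (hP (hμP _)) (fun h => ha' ?_) (hcentre a)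
    have h1 : μ₀ (a, 0, 0) = 1 := congrArg Subtype.val (hψ (h.trans (map_one ψ).symm))
    have hd : d₀ (1 : Fˣ) = 1 := by
      have := d₀_mul (1 : Fˣ) 1
      rwa [mul_one, eq_comm, mul_eq_left] at this
    have h3 := (eq_one₀ h2 (a, 0, 0) 0 1 (by rw [h1, u₀_zero, hd, one_mul, one_mul])).1
    exact congrArg Prod.fst h3
  have hDC : D.C = Subgroup.centralizer ({α} : Set G) := hcentα 1 one_ne_zero
  refine ⟨D,
    { odd := hp
      prime := hpF.out
      charp := hp0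
      mod4 := hqc ▸ hq4
      μ_add := μadd
      u_add := fun s t => by rw [← map_mul]; exact congrArg ψ (Subtype.ext (u₀_add s t))
      d_mul := fun s t => by rw [← map_mul]; exact congrArg ψ (Subtype.ext (d₀_mul s t))
      μu := fun t a b c => by rw [← map_mul, ← map_mul]; exact congrArg ψ (Subtype.ext (μu₀ t a b c))
      μd := fun s a b c => by rw [← map_mul, ← map_mul]; exact congrArg ψ (Subtype.ext (μd₀ s a b c))
      ud := fun s t => by rw [← map_mul, ← map_mul]; exact congrArg ψ (Subtype.ext (ud₀ s t))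
      eq_one := fun y t s h => by
        rw [← map_mul, ← map_mul, ← map_one ψ] at h
        exact eq_one₀ h2 y t s (congrArg Subtype.val (hψ h))
      cent := fun a ha' => by rw [hDC]; exact hcentα a ha'
      centre := fun z hz hz' => ?_
      normC := fun g hg hgN => ?_
      psyl := ⟨P, hPmem⟩
      fus := ?_ }, hDM⟩
  · rw [hDC] at hz hz'
    obtain ⟨⟨z, hzC⟩, rfl⟩ := hψC z hz
    obtain ⟨b, hb'⟩ := eq_μ₀_of_commute h2 hp0 hodd (z := z)
      (fun y => by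
        have h0 : ψ ⟨μ₀ y, hμC y⟩ * ψ ⟨z, hzC⟩ = ψ ⟨z, hzC⟩ * ψ ⟨μ₀ y, hμC y⟩ :=
          hz' (D.μ y) (hP (hμP y))
        rw [← map_mul, ← map_mul] at h0
        exact (congrArg Subtype.val (hψ h0)).symm)
      (by
        have hu1 : D.u 1 ∈ Subgroup.centralizer ({α} : Set G) :=
          hP ((hPmem _).2 ⟨0, 1, by
            rw [show D.μ 0 = ψ 1 from congrArg ψ (Subtype.ext μ₀_zero), map_one, one_mul]⟩)
        have h0 : ψ ⟨u₀ 1, huC 1⟩ * ψ ⟨z, hzC⟩ = ψ ⟨z, hzC⟩ * ψ ⟨u₀ 1, huC 1⟩ := hz' (D.u 1) hu1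
        rw [← map_mul, ← map_mul] at h0
        exact (congrArg Subtype.val (hψ h0)).symm)
    exact ⟨b, congrArg ψ (Subtype.ext hb')⟩
  · rw [hDC] at hg
    obtain ⟨⟨z, hzC⟩, rfl⟩ := hψC g hg
    obtain ⟨y, t, s, hy⟩ := normC₀ h2 hp0 hodd (z := z)
      (by rw [hC₀, Subgroup.mem_centralizer_singleton_iff] at hzC; exact hzC)
      (fun v => by
        have hv : ψ ⟨z, hzC⟩ * D.μ v * (ψ ⟨z, hzC⟩)⁻¹ ∈ D.M :=
          (Subgroup.mem_normalizer_iff.1 hgN _).1 (Subgroup.subset_closure ⟨v, rfl⟩)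
        rw [hDM] at hv
        obtain ⟨w, hw⟩ := hMμ.subset hv
        refine ⟨w, ?_⟩
        have h0 : ψ ⟨μ₀ w, hμC w⟩ * ψ ⟨z, hzC⟩ = ψ ⟨z, hzC⟩ * ψ ⟨μ₀ v, hμC v⟩ :=
          eq_mul_inv_iff_mul_eq.1 hw
        rw [← map_mul, ← map_mul] at h0
        exact (congrArg Subtype.val (hψ h0)).symm)
    refine ⟨y, t, s, ?_⟩
    rw [← map_mul, ← map_mul]
    exact congrArg ψ (Subtype.ext hy)
  · intro hall
    obtain ⟨u, v, Pu, Pv, hu, hv, huP, huc, hvP, hvc, huv⟩ := hc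
    have hz : ∀ (w : G) (Pw : Sylow p G), orderOf w = p → w ∈ (Pw : Subgroup G) →
        (∀ y ∈ (Pw : Subgroup G), y * w = w * y) →
        ∃ (g : G) (b : F), b ≠ 0 ∧ g * w * g⁻¹ = D.μ (b, 0, 0) := by
      intro w Pw hw hwP hwc
      obtain ⟨g, hg⟩ := MulAction.exists_smul_eq G Pw P
      have hgm : ∀ y ∈ (Pw : Subgroup G), g * y * g⁻¹ ∈ (P : Subgroup G) := fun y hy => by
        rw [← hg, Sylow.coe_subgroup_smul]
        exact ⟨y, hy, rfl⟩
      have hwP' := hgm w hwP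
      obtain ⟨z, hz⟩ := hψC _ (hP hwP')
      obtain ⟨b, hb'⟩ := hcentral _ ((hψP z).1 (hz ▸ hwP')) (fun y hy => by
        have hyC : y ∈ C₀ := hPC hy
        have hy' : ψ ⟨y, hyC⟩ ∈ (P : Subgroup G) := (hψP _).2 hy
        rw [← hg, Sylow.coe_subgroup_smul] at hy'
        obtain ⟨y', hy'', e'⟩ := hy'
        have e'' : g * y' * g⁻¹ = ψ ⟨y, hyC⟩ := e'
        have h1 : ψ ⟨y, hyC⟩ * ψ z = ψ z * ψ ⟨y, hyC⟩ := by
          rw [← hz, ← e'']
          calc g * y' * g⁻¹ * (g * w * g⁻¹) = g * (y' * w) * g⁻¹ := by group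
            _ = g * (w * y') * g⁻¹ := by rw [hwc y' hy'']
            _ = _ := by group
        rw [← map_mul, ← map_mul] at h1
        exact congrArg Subtype.val (hψ h1))
      refine ⟨g, b, ?_, hz.trans (congrArg ψ (Subtype.ext hb'))⟩
      rintro rfl
      have : g * w * g⁻¹ = 1 := hz.trans ((congrArg ψ (Subtype.ext (hb'.trans μ₀_zero))).trans (map_one ψ))
      rw [mul_inv_eq_one, mul_eq_left] at this
      rw [this, orderOf_one] at hw
      exact hpF.out.ne_one hw.symm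
    obtain ⟨g₁, b₁, hb₁, e₁⟩ := hz u Pu hu huP huc
    obtain ⟨g₂, b₂, hb₂, e₂⟩ := hz v Pv hv hvP hvc
    obtain ⟨k₁, hk₁⟩ := hall b₁ hb₁
    obtain ⟨k₂, hk₂⟩ := hall b₂ hb₂
    refine huv (g₂⁻¹ * k₂ * k₁⁻¹ * g₁) ?_
    calc g₂⁻¹ * k₂ * k₁⁻¹ * g₁ * u * (g₂⁻¹ * k₂ * k₁⁻¹ * g₁)⁻¹
        = g₂⁻¹ * k₂ * k₁⁻¹ * (g₁ * u * g₁⁻¹) * k₁ * k₂⁻¹ * g₂ := by group
      _ = g₂⁻¹ * (k₂ * D.μ (1, 0, 0) * k₂⁻¹) * g₂ := by rw [e₁, ← hk₁]; group
      _ = v := by rw [hk₂, ← e₂]; group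

end CfsgLib.Recog.SpFourP
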